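import Mathlib
set_option linter.all false

-- part: H402/CsBasic
section
/-!
# Conjugacy class sizes: basic facts

`ix x` is the index of the centraliser of `x`, the size of the conjugacy class of `x`.
-/

set_option autoImplicit false

namespace Cfsg.Agent.H402

open Subgroup

variable {G : Type*} [Group G]

/-- The index of the centraliser of `x`. -/
noncomputable def ix (x : G) : ℕ := (Subgroup.centralizer ({x} : Set G)).index

theorem mem_C {x g : G} : g ∈ Subgroup.centralizer ({x} : Set G) ↔ g * x = x * g :=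
  Subgroup.mem_centralizer_singleton_iff

theorem C_le_of_mem_zpowers {x y : G} (h : y ∈ zpowers x) :
    Subgroup.centralizer ({x} : Set G) ≤ Subgroup.centralizer ({y} : Set G) := by
  intro g hg
  rw [mem_C] at hg ⊢
  obtain ⟨n, rfl⟩ := mem_zpowers_iff.1 h
  exact (Commute.zpow_right (show Commute g x from hg) n).eq

theorem ix_dvd_of_le {x y : G}
    (h : Subgroup.centralizer ({x} : Set G) ≤ Subgroup.centralizer ({y} : Set G)) :
    ix y ∣ ix x := Subgroup.index_dvd_of_le h

theorem mem_center_iff_C {x : G} : x ∈ center G ↔ Subgroup.centralizer ({x} : Set G) = ⊤ := by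
  rw [eq_top_iff, mem_center_iff]
  constructor
  · intro h g _
    rw [mem_C]
    exact h g
  · intro h g
    exact mem_C.1 (h (mem_top g))

theorem ix_eq_one_iff {x : G} : ix x = 1 ↔ x ∈ center G := by
  rw [ix, Subgroup.index_eq_one, mem_center_iff_C]

theorem ix_ne_zero [Finite G] (x : G) : ix x ≠ 0 := Subgroup.index_ne_zero_of_finite

theorem center_le_C (x : G) : center G ≤ Subgroup.centralizer ({x} : Set G) := by
  intro g hg
  rw [mem_C]
  exact (mem_center_iff.1 hg x).symm

theorem ix_dvd_index_center (x : G) : ix x ∣ (center G).index :=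
  Subgroup.index_dvd_of_le (center_le_C x)

theorem C_conj (g x : G) : Subgroup.centralizer ({g * x * g⁻¹} : Set G) =
    (Subgroup.centralizer ({x} : Set G)).map (MulAut.conj g).toMonoidHom := by
  ext y
  rw [mem_map_equiv, mem_C, mem_C]
  simp only [MulAut.conj_symm_apply]
  constructor
  · intro h
    have : g⁻¹ * (y * (g * x * g⁻¹)) * g = g⁻¹ * ((g * x * g⁻¹) * y) * g := by rw [h]
    calc g⁻¹ * y * g * x = g⁻¹ * (y * (g * x * g⁻¹)) * g := by group
      _ = g⁻¹ * ((g * x * g⁻¹) * y) * g := this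
      _ = _ := by group
  · intro h
    calc y * (g * x * g⁻¹) = g * (g⁻¹ * y * g * x) * g⁻¹ := by group
      _ = g * (x * (g⁻¹ * y * g)) * g⁻¹ := by rw [h]
      _ = _ := by group

theorem ix_conj (g x : G) : ix (g * x * g⁻¹) = ix x := by
  rw [ix, C_conj, ix]
  exact Subgroup.index_map_equiv (Subgroup.centralizer ({x} : Set G)) (MulAut.conj g)

theorem center_conj {g x : G} : g * x * g⁻¹ ∈ center G ↔ x ∈ center G := by
  rw [← ix_eq_one_iff, ix_conj, ix_eq_one_iff]

theorem ix_mul_center {x z : G} (hz : z ∈ center G) : ix (x * z) = ix x := by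
  have hz' := mem_center_iff.1 hz
  have : Subgroup.centralizer ({x * z} : Set G) = Subgroup.centralizer ({x} : Set G) := by
    ext g
    rw [mem_C, mem_C]
    constructor
    · intro h
      apply mul_right_cancel (b := z)
      rw [mul_assoc, h, mul_assoc, mul_assoc, ← hz' g]
    · intro h
      rw [← mul_assoc, h, mul_assoc, mul_assoc, hz' g]
  rw [ix, this, ix]

section coprime

variable {x y : G}

theorem left_mem_zpowers_mul (h : Commute x y) (hc : (orderOf x).Coprime (orderOf y)) :
    x ∈ zpowers (x * y) := by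
  obtain ⟨n, hn1, hn2⟩ := Nat.chineseRemainder hc 1 0
  rw [mem_zpowers_iff]
  refine ⟨(n : ℤ), ?_⟩
  rw [zpow_natCast, h.mul_pow]
  have h1 : y ^ n = 1 := by
    rw [← orderOf_dvd_iff_pow_eq_one]
    exact (Nat.modEq_zero_iff_dvd).1 hn2
  have h2 : x ^ n = x := by
    conv_rhs => rw [← pow_one x]
    exact pow_eq_pow_iff_modEq.2 hn1
  rw [h1, h2, mul_one]

theorem C_mul_le_left (h : Commute x y) (hc : (orderOf x).Coprime (orderOf y)) :
    Subgroup.centralizer ({x * y} : Set G) ≤ Subgroup.centralizer ({x} : Set G) :=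
  C_le_of_mem_zpowers (left_mem_zpowers_mul h hc)

theorem C_mul_le_right (h : Commute x y) (hc : (orderOf x).Coprime (orderOf y)) :
    Subgroup.centralizer ({x * y} : Set G) ≤ Subgroup.centralizer ({y} : Set G) := by
  rw [h.eq]
  exact C_le_of_mem_zpowers (left_mem_zpowers_mul h.symm hc.symm)

end coprime

/-- Decomposition into `p`-part and `p'`-part. -/
theorem exists_decomp [Finite G] (x : G) {p : ℕ} (hp : p.Prime) :
    ∃ s t : G, s ∈ zpowers x ∧ t ∈ zpowers x ∧ s * t = x ∧ Commute s t ∧
      (∃ k, orderOf s = p ^ k) ∧ (orderOf t).Coprime p ∧ (orderOf s).Coprime (orderOf t) := by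
  have hx : orderOf x ≠ 0 := (orderOf_pos x).ne'
  set m := orderOf x / p ^ (orderOf x).factorization p with hm
  set k := (orderOf x).factorization p with hk
  have hmk : p ^ k * m = orderOf x := Nat.ordProj_mul_ordCompl_eq_self _ _
  have hcop : (p ^ k).Coprime m := (Nat.coprime_ordCompl hp hx).pow_left k
  have hcop' : m.Coprime p := (Nat.coprime_ordCompl hp hx).symm
  obtain ⟨u, v, huv⟩ : ∃ u v : ℤ, (m : ℤ) * u + (p ^ k : ℕ) * v = 1 := by
    have := Nat.isCoprime_iff_coprime.2 hcop.symm
    obtain ⟨u, v, h⟩ := this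
    exact ⟨u, v, by rw [← h]; ring⟩
  have hs : (x ^ ((m : ℤ) * u)) ^ (p ^ k) = 1 := by
    rw [← zpow_natCast, ← zpow_mul]
    have : (m : ℤ) * u * ((p ^ k : ℕ) : ℤ) = (orderOf x : ℤ) * u := by
      rw [← hmk]; push_cast; ring
    rw [this, zpow_mul, zpow_natCast, pow_orderOf_eq_one, one_zpow]
  have ht : (x ^ (((p ^ k : ℕ) : ℤ) * v)) ^ m = 1 := by
    rw [← zpow_natCast, ← zpow_mul]
    have : ((p ^ k : ℕ) : ℤ) * v * (m : ℤ) = (orderOf x : ℤ) * v := by
      rw [← hmk]; push_cast; ring
    rw [this, zpow_mul, zpow_natCast, pow_orderOf_eq_one, one_zpow]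
  have hs1 : orderOf (x ^ ((m : ℤ) * u)) ∣ p ^ k := orderOf_dvd_of_pow_eq_one hs
  have ht1 : orderOf (x ^ (((p ^ k : ℕ) : ℤ) * v)) ∣ m := orderOf_dvd_of_pow_eq_one ht
  refine ⟨x ^ ((m : ℤ) * u), x ^ (((p ^ k : ℕ) : ℤ) * v), zpow_mem_zpowers _ _,
    zpow_mem_zpowers _ _, ?_, ?_, ?_, ?_, ?_⟩
  · rw [← zpow_add, huv, zpow_one]
  · exact (Commute.refl x).zpow_zpow _ _
  · obtain ⟨j, -, hj⟩ := (Nat.dvd_prime_pow hp).1 hs1
    exact ⟨j, hj⟩
  · exact Nat.Coprime.coprime_dvd_left ht1 hcop'
  · exact Nat.Coprime.coprime_dvd_left hs1 (Nat.Coprime.coprime_dvd_right ht1 hcop)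

/-- An element whose class size is prime to `p` centralises a conjugate of any `p`-subgroup. -/
theorem exists_conj_comm [Finite G] {p : ℕ} [hp : Fact p.Prime] {w z : G} (hw : ¬ p ∣ ix w)
    (hz : ∃ k, orderOf z = p ^ k) :
    ∃ g : G, ∃ P : Sylow p G, (P : Subgroup G) ≤ Subgroup.centralizer ({w} : Set G) ∧
      g * z * g⁻¹ ∈ (P : Subgroup G) := by
  obtain ⟨Q⟩ : Nonempty (Sylow p (Subgroup.centralizer ({w} : Set G))) := inferInstance
  set R := (Q : Subgroup (Subgroup.centralizer ({w} : Set G))).map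
    (Subgroup.centralizer ({w} : Set G)).subtype with hR
  have hRp : IsPGroup p R := Q.2.map _
  have hRi : ¬ p ∣ R.index := by
    rw [hR, Subgroup.index_map]
    simp only [Subgroup.ker_subtype, sup_bot_eq, Subgroup.range_subtype]
    intro h
    rcases hp.out.dvd_mul.1 h with h | h
    · exact Q.not_dvd_index h
    · exact hw h
  let P : Sylow p G := hRp.toSylow hRi
  have hPle : (P : Subgroup G) ≤ Subgroup.centralizer ({w} : Set G) := by
    intro x hx
    have hx' : x ∈ R := hx
    obtain ⟨y, -, rfl⟩ := hx'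
    exact y.2
  have hzp : IsPGroup p (zpowers z) := by
    obtain ⟨k, hk⟩ := hz
    apply IsPGroup.of_card (n := k)
    rw [Nat.card_zpowers, hk]
  obtain ⟨P', hP'⟩ := hzp.exists_le_sylow
  obtain ⟨g, hg⟩ := MulAction.exists_smul_eq G P' P
  refine ⟨g, P, hPle, ?_⟩
  rw [← hg]
  have : z ∈ (P' : Subgroup G) := hP' (mem_zpowers z)
  rw [Sylow.coe_subgroup_smul, Subgroup.mem_pointwise_smul_iff_inv_smul_mem]
  simpa [MulAut.smul_def, mul_assoc] using this

/-- If all `p`-elements of `C(x)` are central, then `|G : Z|` and the class size of `x` have the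
same `p`-part. -/
theorem factorization_eq_of [Finite G] {p : ℕ} [hp : Fact p.Prime] {x : G}
    (h : ∀ y ∈ Subgroup.centralizer ({x} : Set G), (∃ k, orderOf y = p ^ k) → y ∈ center G) :
    (center G).index.factorization p = (ix x).factorization p := by
  have h1 : (center G).index = (center G).relIndex (Subgroup.centralizer ({x} : Set G)) * ix x := by
    rw [ix, Subgroup.relIndex_mul_index (center_le_C x)]
  have h2 : ¬ p ∣ (center G).relIndex (Subgroup.centralizer ({x} : Set G)) := by
    intro hdvd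
    obtain ⟨Q⟩ : Nonempty (Sylow p (Subgroup.centralizer ({x} : Set G))) := inferInstance
    have hQ : (Q : Subgroup (Subgroup.centralizer ({x} : Set G))) ≤
        (center G).subgroupOf (Subgroup.centralizer ({x} : Set G)) := by
      intro y hy
      rw [mem_subgroupOf]
      apply h y y.2
      obtain ⟨k, hk⟩ := (IsPGroup.iff_orderOf.1 Q.2) ⟨y, hy⟩
      refine ⟨k, ?_⟩
      rw [← hk, Subgroup.orderOf_mk, Subgroup.orderOf_coe]
    apply Q.not_dvd_index
    exact hdvd.trans (Subgroup.index_dvd_of_le hQ)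
  have h3 : (center G).relIndex (Subgroup.centralizer ({x} : Set G)) ≠ 0 := by
    intro h0
    rw [h0] at h2
    exact h2 (dvd_zero p)
  rw [h1, Nat.factorization_mul h3 (ix_ne_zero x), Finsupp.add_apply,
    Nat.factorization_eq_zero_of_not_dvd h2, zero_add]

end Cfsg.Agent.H402
end

-- part: H402/CsCover
section
/-!
# A prime dividing no conjugacy class size does not divide `|G : Z(G)|`
-/

set_option autoImplicit false

namespace Cfsg.Agent.H402

open Subgroup MulAction

/-- Jordan: a transitive finite group of degree at least two has a derangement. -/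
theorem exists_derangement {G X : Type*} [Group G] [Finite G] [MulAction G X] [Finite X]
    [IsPretransitive G X] (hX : 1 < Nat.card X) : ∃ g : G, ∀ x : X, g • x ≠ x := by
  classical
  have := Fintype.ofFinite G
  have := Fintype.ofFinite X
  by_contra hcon
  push Not at hcon
  have hne : Nonempty X := by
    rw [← not_isEmpty_iff]
    intro h
    rw [Nat.card_of_isEmpty] at hX
    omega
  have hB := MulAction.sum_card_fixedBy_eq_card_orbits_mul_card_group G X
  have hone : Fintype.card (Quotient (orbitRel G X)) = 1 := by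
    rw [Fintype.card_eq_one_iff_nonempty_unique]
    exact ⟨(pretransitive_iff_unique_quotient_of_nonempty G X).1 inferInstance |>.some⟩
  rw [hone, one_mul] at hB
  have h1 : Fintype.card G = ∑ _g : G, 1 := by simp
  have h2 : ∑ _g : G, 1 < ∑ g : G, Fintype.card (fixedBy X g) := by
    apply Finset.sum_lt_sum
    · intro g _
      obtain ⟨x, hx⟩ := hcon g
      exact Fintype.card_pos_iff.2 ⟨⟨x, hx⟩⟩
    · refine ⟨1, Finset.mem_univ _, ?_⟩
      have : Fintype.card (fixedBy X (1 : G)) = Nat.card X := by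
        rw [← Nat.card_eq_fintype_card]
        apply Nat.card_congr
        exact (Equiv.subtypeUnivEquiv (fun x => by simp))
      rw [this]
      exact hX
  rw [hB, h1] at h2
  exact lt_irrefl _ h2

/-- A proper subgroup of a finite group does not meet all conjugacy classes. -/
theorem eq_top_of_meets {G : Type*} [Group G] [Finite G] (H : Subgroup G)
    (h : ∀ g : G, ∃ x : G, x⁻¹ * g * x ∈ H) : H = ⊤ := by
  by_contra hne
  have h1 : 1 < Nat.card (G ⧸ H) := by
    have h2 : H.index ≠ 1 := fun h => hne (Subgroup.index_eq_one.1 h)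
    have h3 : H.index ≠ 0 := Subgroup.index_ne_zero_of_finite
    have : Nat.card (G ⧸ H) = H.index := rfl
    omega
  obtain ⟨g, hg⟩ := exists_derangement (G := G) h1
  obtain ⟨x, hx⟩ := h g
  apply hg (QuotientGroup.mk x)
  show (QuotientGroup.mk (g * x) : G ⧸ H) = QuotientGroup.mk x
  rw [eq_comm, QuotientGroup.eq]
  rw [← mul_assoc]
  exact hx

/-- If `p` divides no class size, then `p` does not divide `|G : Z(G)|`. -/
theorem not_dvd_index_center {G : Type*} [Group G] [Finite G] {p : ℕ} [hp : Fact p.Prime]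
    (h : ∀ x : G, ¬ p ∣ ix x) : ¬ p ∣ (center G).index := by
  obtain ⟨P⟩ : Nonempty (Sylow p G) := inferInstance
  have htop : Subgroup.centralizer ((P : Subgroup G) : Set G) = ⊤ := by
    apply eq_top_of_meets
    intro g
    obtain ⟨-, Q, hQ, -⟩ := exists_conj_comm (z := 1) (h g) ⟨0, by simp⟩
    obtain ⟨x, hx⟩ := MulAction.exists_smul_eq G Q P
    refine ⟨x⁻¹, ?_⟩
    rw [mem_centralizer_iff]
    intro y hy
    have hy' : y ∈ (P : Subgroup G) := hy
    rw [← hx, Sylow.coe_subgroup_smul, Subgroup.mem_pointwise_smul_iff_inv_smul_mem] at hy'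
    have h1 : x⁻¹ * y * x ∈ (Q : Subgroup G) := by simpa [MulAut.smul_def, mul_assoc] using hy'
    have h2 := mem_C.1 (hQ h1)
    calc y * (x⁻¹⁻¹ * g * x⁻¹) = x * (x⁻¹ * y * x * g) * x⁻¹ := by group
      _ = x * (g * (x⁻¹ * y * x)) * x⁻¹ := by rw [h2]
      _ = _ := by group
  have hle : (P : Subgroup G) ≤ center G := by
    intro x hx
    rw [mem_center_iff]
    intro g
    have : g ∈ Subgroup.centralizer ((P : Subgroup G) : Set G) := htop ▸ mem_top g
    exact (mem_centralizer_iff.1 this x hx).symm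
  intro hdvd
  exact P.not_dvd_index (hdvd.trans (Subgroup.index_dvd_of_le hle))

end Cfsg.Agent.H402
end
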