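import Cfsg.Agent.H402.CsCover
import Cfsg.Agent.Blocks.Central
import Cfsg.Agent.ClassicalGeometry.PSL2Basic
set_option linter.all false

-- part: H402/CsTypes
section
/-!
# Groups with the class sizes of `PSL(2, q)`: the types of the elements

The class sizes are written `1, d a b, q d a, q d b, q b` with `{a, b} = {(q - 1)/d, (q + 1)/d}`,
`b` odd, `d = gcd(2, q - 1)`.
-/

set_option autoImplicit false
set_option linter.unusedSectionVars false

namespace Cfsg.Agent.H402

open Subgroup

/-- The arithmetic conditions. -/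
structure Ar (q d a b r : ℕ) : Prop where
  hr : r.Prime
  hq : ∃ f, 1 ≤ f ∧ q = r ^ f
  ha : 3 ≤ a
  hb : 3 ≤ b
  hab : a.Coprime b
  hqa : q.Coprime a
  hqb : q.Coprime b
  hbo : Odd b
  hd : (d = 1 ∧ Even q ∧ Odd a) ∨ (d = 2 ∧ Odd q ∧ Even a)

/-- The possible sizes of noncentral classes. -/
def IsSz (q d a b n : ℕ) : Prop := n = d * a * b ∨ n = q * d * a ∨ n = q * d * b ∨ n = q * b

/-- The type of a class size: 0 for `d a b`, 1 for `q d a`, 2 for `q d b` and `q b`. -/
def ty (q d a b n : ℕ) : ℕ := if n = d * a * b then 0 else if n = q * d * a then 1 else 2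

/-- The type belonging to a prime. -/
def tyP (q b p : ℕ) : ℕ := if p ∣ q then 0 else if p ∣ b then 1 else 2

namespace Ar

variable {q d a b r : ℕ} (h : Ar q d a b r)

include h

theorem q_gt : 1 < q := by
  obtain ⟨f, hf, rfl⟩ := h.hq
  exact Nat.one_lt_pow (by omega) h.hr.one_lt

theorem d_pos : 0 < d := by rcases h.hd with ⟨rfl, -⟩ | ⟨rfl, -⟩ <;> norm_num

theorem d_le : d ≤ 2 := by rcases h.hd with ⟨rfl, -⟩ | ⟨rfl, -⟩ <;> norm_num

theorem dvd_q_iff {p : ℕ} (hp : p.Prime) : p ∣ q ↔ p = r := by
  obtain ⟨f, hf, hfq⟩ := h.hq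
  rw [hfq]
  constructor
  · intro h1
    exact (Nat.prime_dvd_prime_iff_eq hp h.hr).1 (hp.dvd_of_dvd_pow h1)
  · rintro rfl
    exact dvd_pow_self p (by omega)

theorem not_dvd_of_coprime {m n p : ℕ} (hmn : m.Coprime n) (hp : p.Prime) (hm : p ∣ m) : ¬ p ∣ n := by
  intro hn
  have := Nat.dvd_gcd hm hn
  rw [hmn] at this
  exact hp.one_lt.ne' (Nat.dvd_one.1 this)

theorem b_not_dvd_d : ¬ b ∣ d := fun h1 => by
  have := Nat.le_of_dvd h.d_pos h1
  have := h.d_le
  have := h.hb
  omega

theorem a_not_dvd_d : ¬ a ∣ d := fun h1 => by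
  have := Nat.le_of_dvd h.d_pos h1
  have := h.d_le
  have := h.ha
  omega

theorem b_not_dvd_a : ¬ b ∣ a := fun h1 => by
  have := Nat.Coprime.eq_one_of_dvd h.hab.symm h1
  have := h.hb
  omega

theorem a_not_dvd_b : ¬ a ∣ b := fun h1 => by
  have := Nat.Coprime.eq_one_of_dvd h.hab h1
  have := h.ha
  omega

theorem b_not_dvd_q : ¬ b ∣ q := fun h1 => by
  have := Nat.Coprime.eq_one_of_dvd h.hqb.symm h1
  have := h.hb
  omega

theorem a_not_dvd_q : ¬ a ∣ q := fun h1 => by
  have := Nat.Coprime.eq_one_of_dvd h.hqa.symm h1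
  have := h.ha
  omega

theorem q_not_dvd_a : ¬ q ∣ a := fun h1 => by
  have := Nat.Coprime.eq_one_of_dvd h.hqa h1
  have := h.q_gt
  omega

theorem q_not_dvd_b : ¬ q ∣ b := fun h1 => by
  have := Nat.Coprime.eq_one_of_dvd h.hqb h1
  have := h.q_gt
  omega

theorem q_not_dvd_d : ¬ q ∣ d := fun h1 => by
  have h2 := h.q_gt
  rcases h.hd with ⟨rfl, -⟩ | ⟨rfl, ho, -⟩
  · have := Nat.le_of_dvd one_pos h1
    omega
  · have := Nat.le_of_dvd two_pos h1
    have : q = 2 := by omega
    rw [this] at ho
    exact absurd ho (by decide)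

theorem coprime_qd : q.Coprime d := by
  rcases h.hd with ⟨rfl, -⟩ | ⟨rfl, ho, -⟩
  · exact Nat.coprime_one_right q
  · exact (Nat.coprime_two_right).2 ho

theorem coprime_bd : b.Coprime d := by
  rcases h.hd with ⟨rfl, -⟩ | ⟨rfl, ho, -⟩
  · exact Nat.coprime_one_right b
  · exact (Nat.coprime_two_right).2 h.hbo

theorem n1 : ¬ d * a * b ∣ q * d * a := fun h1 => h.b_not_dvd_q (by
  have h2 : (d * a) * b ∣ (d * a) * q := by
    have : (d * a) * q = q * d * a := by ring
    rwa [this]
  exact Nat.dvd_of_mul_dvd_mul_left (Nat.mul_pos h.d_pos (by have := h.ha; omega)) h2)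

theorem n2 : ¬ d * a * b ∣ q * d * b := fun h1 => h.a_not_dvd_q (by
  have h2 : (d * b) * a ∣ (d * b) * q := by
    have e1 : (d * b) * q = q * d * b := by ring
    have e2 : (d * b) * a = d * a * b := by ring
    rwa [e1, e2]
  exact Nat.dvd_of_mul_dvd_mul_left (Nat.mul_pos h.d_pos (by have := h.hb; omega)) h2)

theorem n3 : ¬ d * a * b ∣ q * b := fun h1 => h.n2 (h1.trans ⟨d, by ring⟩)

theorem n4 : ¬ q * d * a ∣ d * a * b := fun h1 => h.q_not_dvd_b (by
  have h2 : (d * a) * q ∣ (d * a) * b := by
    have : (d * a) * q = q * d * a := by ring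
    rwa [this]
  exact Nat.dvd_of_mul_dvd_mul_left (Nat.mul_pos h.d_pos (by have := h.ha; omega)) h2)

theorem n5 : ¬ q * d * a ∣ q * d * b := fun h1 => h.a_not_dvd_b
  (Nat.dvd_of_mul_dvd_mul_left (Nat.mul_pos (by have := h.q_gt; omega) h.d_pos) h1)

theorem n6 : ¬ q * d * a ∣ q * b := fun h1 => h.n5 (h1.trans ⟨d, by ring⟩)

theorem n7 : ¬ q * b ∣ d * a * b := fun h1 => by
  have h2 : q ∣ d * a := Nat.dvd_of_mul_dvd_mul_right (by have := h.hb; omega) h1
  exact h.q_not_dvd_d (h.hqa.dvd_of_dvd_mul_right h2)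

theorem n8 : ¬ q * b ∣ q * d * a := fun h1 => by
  rw [mul_assoc] at h1
  have h2 : b ∣ d * a := Nat.dvd_of_mul_dvd_mul_left (by have := h.q_gt; omega) h1
  exact h.b_not_dvd_d (h.hab.symm.dvd_of_dvd_mul_right h2)

theorem n9 : ¬ q * d * b ∣ d * a * b := fun h1 => h.n7 (Dvd.dvd.trans ⟨d, by ring⟩ h1)

theorem n10 : ¬ q * d * b ∣ q * d * a := fun h1 => h.n8 (Dvd.dvd.trans ⟨d, by ring⟩ h1)

theorem ty0 : ty q d a b (d * a * b) = 0 := by rw [ty, if_pos rfl]

theorem ty1 : ty q d a b (q * d * a) = 1 := by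
  rw [ty, if_neg, if_pos rfl]
  intro h1
  exact h.n4 (h1 ▸ dvd_rfl)

theorem ty2 : ty q d a b (q * d * b) = 2 := by
  rw [ty, if_neg, if_neg]
  · intro h1
    exact h.n10 (h1 ▸ dvd_rfl)
  · intro h1
    exact h.n9 (h1 ▸ dvd_rfl)

theorem ty2' : ty q d a b (q * b) = 2 := by
  rw [ty, if_neg, if_neg]
  · intro h1
    exact h.n8 (h1 ▸ dvd_rfl)
  · intro h1
    exact h.n7 (h1 ▸ dvd_rfl)

/-- (T1), (T2) divisibility among the sizes. -/
theorem dvd_cases {m n : ℕ} (hm : IsSz q d a b m) (hn : IsSz q d a b n) (hmn : m ∣ n) :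
    ty q d a b m = ty q d a b n ∧ (n = m ∨ (n = 2 * m ∧ m = q * b ∧ n = q * d * b ∧ d = 2)) := by
  have hq1 := h.q_gt
  have hb := h.hb
  have hd := h.d_pos
  rcases hm with rfl | rfl | rfl | rfl <;> rcases hn with rfl | rfl | rfl | rfl
  · exact ⟨rfl, Or.inl rfl⟩
  · exact absurd hmn h.n1
  · exact absurd hmn h.n2
  · exact absurd hmn h.n3
  · exact absurd hmn h.n4
  · exact ⟨rfl, Or.inl rfl⟩
  · exact absurd hmn h.n5
  · exact absurd hmn h.n6
  · exact absurd hmn h.n9
  · exact absurd hmn h.n10
  · exact ⟨rfl, Or.inl rfl⟩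
  · refine ⟨by rw [h.ty2, h.ty2'], Or.inl ?_⟩
    exact Nat.dvd_antisymm ⟨d, by ring⟩ hmn
  · exact absurd hmn h.n7
  · exact absurd hmn h.n8
  · refine ⟨by rw [h.ty2, h.ty2'], ?_⟩
    rcases h.hd with ⟨rfl, -⟩ | ⟨rfl, -⟩
    · left; ring
    · right; refine ⟨by ring, rfl, rfl, rfl⟩
  · exact ⟨rfl, Or.inl rfl⟩

/-- (T3) -/
theorem ty_eq_of_dvd {m p k : ℕ} (hm : IsSz q d a b m) (hp : p.Prime)
    (hdvd : q * d * a * b ∣ m * p ^ k) : ty q d a b m = tyP q b p := by
  have hq1 := h.q_gt
  have ha := h.ha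
  have hb := h.hb
  have hd := h.d_pos
  have key : ∀ {c : ℕ}, 1 < c → c ∣ p ^ k → p ∣ c := by
    intro c hc hcp
    obtain ⟨j, -, hj⟩ := (Nat.dvd_prime_pow hp).1 hcp
    rcases Nat.eq_zero_or_pos j with rfl | hj0
    · rw [pow_zero] at hj
      omega
    · rw [hj]
      exact dvd_pow_self p hj0.ne'
  rcases hm with rfl | rfl | rfl | rfl
  · rw [h.ty0]
    have h1 : (d * a * b) * q ∣ (d * a * b) * p ^ k := by
      have : (d * a * b) * q = q * d * a * b := by ring
      rwa [this]
    have h2 := key hq1 (Nat.dvd_of_mul_dvd_mul_left (by positivity) h1)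
    rw [tyP, if_pos h2]
  · rw [h.ty1]
    have h1 : (q * d * a) * b ∣ (q * d * a) * p ^ k := hdvd
    have h2 := key (by omega) (Nat.dvd_of_mul_dvd_mul_left (by positivity) h1)
    rw [tyP, if_neg (h.not_dvd_of_coprime h.hqb.symm hp h2), if_pos h2]
  · rw [h.ty2]
    have h1 : (q * d * b) * a ∣ (q * d * b) * p ^ k := by
      have : (q * d * b) * a = q * d * a * b := by ring
      rwa [this]
    have h2 := key (by omega) (Nat.dvd_of_mul_dvd_mul_left (by positivity) h1)
    rw [tyP, if_neg (h.not_dvd_of_coprime h.hqa.symm hp h2),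
      if_neg (h.not_dvd_of_coprime h.hab hp h2)]
  · rw [h.ty2']
    have h1 : (q * b) * (d * a) ∣ (q * b) * p ^ k := by
      have : (q * b) * (d * a) = q * d * a * b := by ring
      rwa [this]
    have h3 := Nat.dvd_of_mul_dvd_mul_left (by positivity) h1
    have h2 : p ∣ a := key (by omega) ((Dvd.intro_left d rfl).trans h3)
    rw [tyP, if_neg (h.not_dvd_of_coprime h.hqa.symm hp h2),
      if_neg (h.not_dvd_of_coprime h.hab hp h2)]

/-- (T4) -/
theorem exists_size {p : ℕ} (hp : p.Prime) (hpd : p ∣ q * a * b) :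
    ∃ n, (n = d * a * b ∨ n = q * d * a ∨ n = q * b) ∧ ¬ p ∣ n ∧ ty q d a b n = tyP q b p := by
  rcases hp.dvd_mul.1 hpd with h1 | h1
  · rcases hp.dvd_mul.1 h1 with h2 | h2
    · refine ⟨d * a * b, Or.inl rfl, ?_, ?_⟩
      · intro h3
        rcases hp.dvd_mul.1 h3 with h3 | h3
        · rcases hp.dvd_mul.1 h3 with h3 | h3
          · exact h.not_dvd_of_coprime h.coprime_qd hp h2 h3
          · exact h.not_dvd_of_coprime h.hqa hp h2 h3
        · exact h.not_dvd_of_coprime h.hqb hp h2 h3
      · rw [h.ty0, tyP, if_pos h2]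
    · refine ⟨q * b, Or.inr (Or.inr rfl), ?_, ?_⟩
      · intro h3
        rcases hp.dvd_mul.1 h3 with h3 | h3
        · exact h.not_dvd_of_coprime h.hqa.symm hp h2 h3
        · exact h.not_dvd_of_coprime h.hab hp h2 h3
      · rw [h.ty2', tyP, if_neg (h.not_dvd_of_coprime h.hqa.symm hp h2),
          if_neg (h.not_dvd_of_coprime h.hab hp h2)]
  · refine ⟨q * d * a, Or.inr (Or.inl rfl), ?_, ?_⟩
    · intro h3
      rcases hp.dvd_mul.1 h3 with h3 | h3
      · rcases hp.dvd_mul.1 h3 with h3 | h3
        · exact h.not_dvd_of_coprime h.hqb.symm hp h1 h3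
        · exact h.not_dvd_of_coprime h.coprime_bd hp h1 h3
      · exact h.not_dvd_of_coprime h.hab.symm hp h1 h3
    · rw [h.ty1, tyP, if_neg (h.not_dvd_of_coprime h.hqb.symm hp h1), if_pos h1]

/-- (T5) -/
theorem tyP_two (hd : d = 2) : tyP q b 2 = 2 := by
  rcases h.hd with ⟨rfl, -⟩ | ⟨-, ho, -⟩
  · omega
  · rw [tyP, if_neg, if_neg]
    · intro h1
      exact (Nat.not_even_iff_odd.2 h.hbo) (even_iff_two_dvd.2 h1)
    · intro h1
      exact (Nat.not_even_iff_odd.2 ho) (even_iff_two_dvd.2 h1)

end Ar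

variable {G : Type*} [Group G] [Finite G] {q d a b r : ℕ}

/-- A group whose noncentral class sizes are those of `PSL(2, q)`. -/
structure Hyp (G : Type*) [Group G] (q d a b r : ℕ) : Prop extends Ar q d a b r where
  sz : ∀ x : G, x ∉ center G → IsSz q d a b (ix x)
  exU : ∃ x : G, ix x = d * a * b
  exB : ∃ x : G, ix x = q * d * a
  exA : ∃ x : G, ix x = q * b

namespace Hyp

variable (h : Hyp G q d a b r)

include h

theorem exists_ix {n : ℕ} (hn : n = d * a * b ∨ n = q * d * a ∨ n = q * b) : ∃ x : G, ix x = n := by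
  rcases hn with rfl | rfl | rfl
  · exact h.exU
  · exact h.exB
  · exact h.exA

theorem not_center {x : G} {n : ℕ} (hn : n = d * a * b ∨ n = q * d * a ∨ n = q * b)
    (hx : ix x = n) : x ∉ center G := by
  rw [← ix_eq_one_iff, hx]
  have hq := h.q_gt
  have ha := h.ha
  have hb := h.hb
  have hd := h.d_pos
  rcases hn with rfl | rfl | rfl
  · have : 1 < d * a * b := by
      calc 1 < 1 * 3 * 3 := by norm_num
        _ ≤ d * a * b := by gcongr; omega
    omega
  · have : 1 < q * d * a := by
      calc 1 < 1 * 1 * 3 := by norm_num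
        _ ≤ q * d * a := by gcongr; omega
    omega
  · have : 1 < q * b := by
      calc 1 < 1 * 3 := by norm_num
        _ ≤ q * b := by gcongr
    omega

/-- Types along inclusions of centralisers. -/
theorem ty_eq {x y : G} (hx : x ∉ center G)
    (hle : Subgroup.centralizer ({y} : Set G) ≤ Subgroup.centralizer ({x} : Set G)) :
    ty q d a b (ix x) = ty q d a b (ix y) := by
  have hy : y ∉ center G := by
    intro hy
    rw [mem_center_iff_C] at hy hx
    rw [hy] at hle
    exact hx (top_le_iff.1 hle)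
  exact (h.dvd_cases (h.sz x hx) (h.sz y hy) (ix_dvd_of_le hle)).1

theorem ty_mul_left {x y : G} (hx : x ∉ center G) (hc : Commute x y)
    (ho : (orderOf x).Coprime (orderOf y)) : ty q d a b (ix x) = ty q d a b (ix (x * y)) :=
  h.ty_eq hx (C_mul_le_left hc ho)

/-- Commuting noncentral elements of coprime orders have the same type. -/
theorem ty_comm {x y : G} (hx : x ∉ center G) (hy : y ∉ center G) (hc : Commute x y)
    (ho : (orderOf x).Coprime (orderOf y)) : ty q d a b (ix x) = ty q d a b (ix y) := by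
  rw [h.ty_mul_left hx hc ho, hc.eq]
  exact (h.ty_mul_left hy hc.symm ho.symm).symm

theorem dvd_index : q * d * a * b ∣ (center G).index := by
  obtain ⟨x, hx⟩ := h.exU
  obtain ⟨y, hy⟩ := h.exB
  have h1 : d * a * b ∣ (center G).index := hx ▸ ix_dvd_index_center x
  have h2 : q * d * a ∣ (center G).index := hy ▸ ix_dvd_index_center y
  have h3 : q ∣ (center G).index := (Dvd.intro _ (by rw [mul_assoc])).trans h2
  have hc : q.Coprime (d * a * b) := (h.coprime_qd.mul_right h.hqa).mul_right h.hqb
  have := hc.mul_dvd_of_dvd_of_dvd h3 h1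
  have e : q * (d * a * b) = q * d * a * b := by ring
  rwa [e] at this

/-- **Claim(p)**: all noncentral `p`-elements have the type belonging to `p`. -/
theorem ty_pElement {p : ℕ} (hp : p.Prime) (hpd : p ∣ q * a * b) {z : G} (hz : z ∉ center G)
    (hzp : ∃ k, orderOf z = p ^ k) : ty q d a b (ix z) = tyP q b p := by
  have : Fact p.Prime := ⟨hp⟩
  obtain ⟨n, hn, hpn, htn⟩ := h.exists_size hp hpd
  obtain ⟨w, hw⟩ := h.exists_ix hn
  have hwc := h.not_center hn hw
  obtain ⟨g, P, hP, hgP⟩ := exists_conj_comm (p := p) (w := w) (z := z) (by rwa [hw]) hzp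
  -- replace z by its conjugate
  rw [← ix_conj g z]
  have hz' : g * z * g⁻¹ ∉ center G := by rwa [center_conj]
  have hzp' : ∃ k, orderOf (g * z * g⁻¹) = p ^ k := by
    obtain ⟨k, hk⟩ := hzp
    refine ⟨k, ?_⟩
    rw [← hk]
    exact orderOf_injective (MulAut.conj g).toMonoidHom (MulAut.conj g).injective z
  generalize g * z * g⁻¹ = z at hgP hz' hzp'
  rw [← htn, ← hw]
  obtain ⟨s, t, hs, ht, hst, hcst, ⟨k, hk⟩, htp, hcop⟩ := exists_decomp w hp
  have hzw : Commute z w := mem_C.1 (hP hgP)
  obtain ⟨j, hj⟩ := hzp'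
  have hzt : Commute z t := by
    obtain ⟨m, rfl⟩ := mem_zpowers_iff.1 ht
    exact hzw.zpow_right m
  have hzs : Commute z s := by
    obtain ⟨m, rfl⟩ := mem_zpowers_iff.1 hs
    exact hzw.zpow_right m
  by_cases htc : t ∈ center G
  swap
  · rw [← h.ty_eq htc (C_le_of_mem_zpowers ht)]
    apply h.ty_comm hz' htc hzt
    rw [hj]
    exact Nat.Coprime.pow_left j htp.symm
  -- now w may be replaced by its p-part s
  have hws : ix w = ix s := by rw [← hst, ix_mul_center htc]
  have hsc : s ∉ center G := by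
    intro hsc
    apply hwc
    rw [← hst]
    exact mul_mem hsc htc
  rw [hws]
  by_contra hne
  -- all p'-elements of C(z) are central
  have hcen : ∀ x ∈ Subgroup.centralizer ({z} : Set G), (orderOf x).Coprime p → x ∈ center G := by
    intro x hx hxp
    by_contra hxc
    have hxz : Commute x z := mem_C.1 hx
    have ho : (orderOf x).Coprime (orderOf z) := by
      rw [hj]
      exact Nat.Coprime.pow_right j hxp
    have hty1 := h.ty_comm hxc hz' hxz ho
    have hle := C_mul_le_right hxz ho
    have hxzc : x * z ∉ center G := by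
      intro hh
      rw [mem_center_iff_C] at hh hz'
      rw [hh] at hle
      exact hz' (top_le_iff.1 hle)
    have hdc := (h.dvd_cases (h.sz z hz') (h.sz _ hxzc) (ix_dvd_of_le hle)).2
    -- s ∈ C(x z)
    have hs1 : s ∈ Subgroup.centralizer ({x * z} : Set G) := by
      rcases hdc with hdc | ⟨hdc, hzz, -, hd2⟩
      · have : Subgroup.centralizer ({x * z} : Set G) = Subgroup.centralizer ({z} : Set G) := by
          refine Subgroup.eq_of_le_of_card_ge hle ?_
          have h1 := (Subgroup.centralizer ({x * z} : Set G)).card_mul_index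
          have h2 := (Subgroup.centralizer ({z} : Set G)).card_mul_index
          have h3 : (Subgroup.centralizer ({x * z} : Set G)).index =
            (Subgroup.centralizer ({z} : Set G)).index := hdc
          rw [h3, ← h2] at h1
          have h4 : (Subgroup.centralizer ({z} : Set G)).index ≠ 0 :=
            Subgroup.index_ne_zero_of_finite
          exact (Nat.eq_of_mul_eq_mul_right (Nat.pos_of_ne_zero h4) h1).ge
        rw [this, mem_C]
        exact hzs.symm.eq
      · -- p is odd
        have hp2 : p ≠ 2 := by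
          rintro rfl
          apply hne
          rw [hzz, h.ty2', ← hws, hw, htn, h.tyP_two hd2]
        have hrel : ((Subgroup.centralizer ({x * z} : Set G)).subgroupOf
            (Subgroup.centralizer ({z} : Set G))).index = 2 := by
          have h1 := Subgroup.relIndex_mul_index hle
          have h2 : (Subgroup.centralizer ({x * z} : Set G)).index =
            2 * (Subgroup.centralizer ({z} : Set G)).index := hdc
          rw [h2] at h1
          have h4 : (Subgroup.centralizer ({z} : Set G)).index ≠ 0 :=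
            Subgroup.index_ne_zero_of_finite
          exact Nat.eq_of_mul_eq_mul_right (Nat.pos_of_ne_zero h4) h1
        have hsz : s ∈ Subgroup.centralizer ({z} : Set G) := mem_C.2 hzs.symm.eq
        have hsq := Subgroup.mul_self_mem_of_index_two hrel ⟨s, hsz⟩
        rw [mem_subgroupOf] at hsq
        have hsq' : s * s ∈ Subgroup.centralizer ({x * z} : Set G) := hsq
        -- s is a power of s * s
        have hodd : Odd (orderOf s) := by
          rw [hk]
          exact (hp.odd_of_ne_two hp2).pow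
        obtain ⟨m, hm⟩ := hodd
        have h5 : s = (s * s) ^ (m + 1) := by
          have h6 : s ^ (2 * m + 1) = 1 := by rw [← hm]; exact pow_orderOf_eq_one s
          calc s = s ^ (2 * m + 1) * s := by rw [h6, one_mul]
            _ = (s * s) ^ (m + 1) := by rw [← pow_two, ← pow_mul, ← pow_succ]; congr 1
        rw [h5]
        exact pow_mem hsq' _
    have hs2 : Commute s x := mem_C.1 (C_mul_le_left hxz ho hs1)
    have hty2 : ty q d a b (ix s) = ty q d a b (ix x) := by
      apply h.ty_comm hsc hxc hs2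
      rw [hk]
      exact Nat.Coprime.pow_left k hxp.symm
    exact hne (hty1.symm.trans hty2.symm)
  -- hence |G : Z| = ix z * p ^ k
  have hidx : ∃ k, (center G).index = ix z * p ^ k := by
    have hne0 : (center G).index ≠ 0 := Subgroup.index_ne_zero_of_finite
    refine ⟨(center G).index.factorization p - (ix z).factorization p, ?_⟩
    apply Nat.eq_of_factorization_eq hne0
      (mul_ne_zero (ix_ne_zero z) (pow_ne_zero _ hp.ne_zero))
    intro l
    rw [Nat.factorization_mul (ix_ne_zero z) (pow_ne_zero _ hp.ne_zero), Finsupp.add_apply,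
      hp.factorization_pow]
    by_cases hl : l = p
    · subst hl
      have := (Nat.factorization_le_iff_dvd (ix_ne_zero z) hne0).2 (ix_dvd_index_center z) l
      simp only [Finsupp.single_eq_same]
      omega
    · rw [Finsupp.single_eq_of_ne (by omega), add_zero]
      by_cases hlp : l.Prime
      · have : Fact l.Prime := ⟨hlp⟩
        apply factorization_eq_of
        intro y hy ⟨i, hi⟩
        apply hcen y hy
        rw [hi]
        exact Nat.Coprime.pow_left i ((Nat.coprime_primes hlp hp).2 hl)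
      · rw [Nat.factorization_eq_zero_of_not_prime _ hlp,
          Nat.factorization_eq_zero_of_not_prime _ hlp]
  obtain ⟨i, hi⟩ := hidx
  have hfin := h.ty_eq_of_dvd (h.sz z hz') hp (hi ▸ h.dvd_index)
  apply hne
  rw [hfin, ← hws, hw, htn]

/-- If the noncentral `x` does not have the type of `p` then the `p`-elements of `C(x)` are
central. -/
theorem pElement_central {p : ℕ} (hp : p.Prime) (hpd : p ∣ q * a * b) {x : G} (hx : x ∉ center G)
    (ht : ty q d a b (ix x) ≠ tyP q b p) {y : G}
    (hy : y ∈ Subgroup.centralizer ({x} : Set G)) (hyp : ∃ k, orderOf y = p ^ k) :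
    y ∈ center G := by
  by_contra hyc
  obtain ⟨s, t, hs, htt, hst, hcst, hk, htp, hcop⟩ := exists_decomp x hp
  have hsc : s ∈ center G := by
    by_contra hsc
    apply ht
    rw [← h.ty_eq hsc (C_le_of_mem_zpowers hs)]
    exact h.ty_pElement hp hpd hsc hk
  have htc : t ∉ center G := by
    intro htc
    apply hx
    rw [← hst]
    exact mul_mem hsc htc
  have hyx : Commute y x := mem_C.1 hy
  have hyt : Commute y t := by
    obtain ⟨m, rfl⟩ := mem_zpowers_iff.1 htt
    exact hyx.zpow_right m
  apply ht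
  rw [← h.ty_eq htc (C_le_of_mem_zpowers htt), ← h.ty_pElement hp hpd hyc hyp]
  symm
  apply h.ty_comm hyc htc hyt
  obtain ⟨j, hj⟩ := hyp
  rw [hj]
  exact Nat.Coprime.pow_left j htp.symm

/-- **The order of `G / Z(G)`.** -/
theorem index_center : (center G).index = q * d * a * b := by
  have hq := h.q_gt
  have ha := h.ha
  have hb := h.hb
  have hd := h.d_pos
  have hne0 : (center G).index ≠ 0 := Subgroup.index_ne_zero_of_finite
  have hq0 : q ≠ 0 := by omega
  have ha0 : a ≠ 0 := by omega
  have hb0 : b ≠ 0 := by omega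
  have hd0 : d ≠ 0 := by omega
  apply Nat.eq_of_factorization_eq hne0 (by positivity)
  intro p
  by_cases hp : p.Prime
  swap
  · rw [Nat.factorization_eq_zero_of_not_prime _ hp,
      Nat.factorization_eq_zero_of_not_prime _ hp]
  have : Fact p.Prime := ⟨hp⟩
  by_cases hpd : p ∣ q * a * b
  · by_cases hpq : p ∣ q
    · obtain ⟨x, hx⟩ := h.exB
      have hxc : x ∉ center G := h.not_center (Or.inr (Or.inl rfl)) hx
      have h1 : (center G).index.factorization p = (ix x).factorization p :=
        factorization_eq_of (fun y hy hyp => h.pElement_central hp hpd hxc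
          (by rw [hx, h.ty1, tyP, if_pos hpq]; norm_num) hy hyp)
      rw [h1, hx, Nat.factorization_mul (b := b) (by positivity) hb0, Finsupp.add_apply,
        Nat.factorization_eq_zero_of_not_dvd (h.not_dvd_of_coprime h.hqb hp hpq), add_zero]
    · obtain ⟨x, hx⟩ := h.exU
      have hxc : x ∉ center G := h.not_center (Or.inl rfl) hx
      have h1 : (center G).index.factorization p = (ix x).factorization p :=
        factorization_eq_of (fun y hy hyp => h.pElement_central hp hpd hxc
          (by rw [hx, h.ty0, tyP, if_neg hpq]; split_ifs <;> norm_num) hy hyp)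
      have h2 : q * d * a * b = q * (d * a * b) := by ring
      rw [h1, hx, h2, Nat.factorization_mul hq0 (by positivity), Finsupp.add_apply,
        Nat.factorization_eq_zero_of_not_dvd hpq, zero_add]
  · -- p divides no class size
    have hpqab : ¬ p ∣ q * d * a * b := by
      intro h1
      apply hpd
      rcases hp.dvd_mul.1 h1 with h1 | h1
      · rcases hp.dvd_mul.1 h1 with h1 | h1
        · rcases hp.dvd_mul.1 h1 with h1 | h1
          · exact (h1.mul_right a).mul_right b
          · rcases h.hd with ⟨rfl, -⟩ | ⟨rfl, -, he⟩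
            · exact absurd (Nat.dvd_one.1 h1) hp.one_lt.ne'
            · have : p ∣ a := h1.trans (even_iff_two_dvd.1 he)
              exact (this.mul_left q).mul_right b
        · exact (h1.mul_left q).mul_right b
      · exact h1.mul_left (q * a)
    have h1 : ∀ x : G, ¬ p ∣ ix x := by
      intro x hdv
      by_cases hx : x ∈ center G
      · rw [ix_eq_one_iff.2 hx] at hdv
        exact hp.one_lt.ne' (Nat.dvd_one.1 hdv)
      · apply hpqab
        refine hdv.trans ?_
        rcases h.sz x hx with h2 | h2 | h2 | h2 <;> rw [h2]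
        · exact ⟨q, by ring⟩
        · exact ⟨b, by ring⟩
        · exact ⟨a, by ring⟩
        · exact ⟨d * a, by ring⟩
    rw [Nat.factorization_eq_zero_of_not_dvd (not_dvd_index_center h1),
      Nat.factorization_eq_zero_of_not_dvd hpqab]

end Hyp

end Cfsg.Agent.H402
end

-- part: H402/PSL2Cls
section
/-!
# The conjugacy class sizes of `PSL(2, F)`
-/

set_option autoImplicit false
set_option linter.unusedSectionVars false

namespace Cfsg.Agent.H402.PSL2Cls

open Matrix

variable {F : Type*} [Field F]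

/-- The trace. -/
def tr (M : SpecialLinearGroup (Fin 2) F) : F := M.1 0 0 + M.1 1 1

theorem det_eq (M : SpecialLinearGroup (Fin 2) F) : M.1 0 0 * M.1 1 1 - M.1 0 1 * M.1 1 0 = 1 := by
  rw [← Matrix.det_fin_two]; exact M.2

/-- Elements given by their entries. -/
def mkSL (a b c e : F) (h : a * e - b * c = 1) : SpecialLinearGroup (Fin 2) F :=
  ⟨!![a, b; c, e], by rw [Matrix.det_fin_two_of]; exact h⟩

theorem ext4 {M N : SpecialLinearGroup (Fin 2) F} (h00 : M.1 0 0 = N.1 0 0)
    (h01 : M.1 0 1 = N.1 0 1) (h10 : M.1 1 0 = N.1 1 0) (h11 : M.1 1 1 = N.1 1 1) : M = N := by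
  apply Subtype.ext
  ext i j
  fin_cases i <;> fin_cases j <;> assumption

theorem mul00 (M N : SpecialLinearGroup (Fin 2) F) :
    (M * N).1 0 0 = M.1 0 0 * N.1 0 0 + M.1 0 1 * N.1 1 0 := by
  show (M.1 * N.1) 0 0 = _
  rw [Matrix.mul_apply, Fin.sum_univ_two]

theorem mul01 (M N : SpecialLinearGroup (Fin 2) F) :
    (M * N).1 0 1 = M.1 0 0 * N.1 0 1 + M.1 0 1 * N.1 1 1 := by
  show (M.1 * N.1) 0 1 = _
  rw [Matrix.mul_apply, Fin.sum_univ_two]

theorem mul10 (M N : SpecialLinearGroup (Fin 2) F) :
    (M * N).1 1 0 = M.1 1 0 * N.1 0 0 + M.1 1 1 * N.1 1 0 := by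
  show (M.1 * N.1) 1 0 = _
  rw [Matrix.mul_apply, Fin.sum_univ_two]

theorem mul11 (M N : SpecialLinearGroup (Fin 2) F) :
    (M * N).1 1 1 = M.1 1 0 * N.1 0 1 + M.1 1 1 * N.1 1 1 := by
  show (M.1 * N.1) 1 1 = _
  rw [Matrix.mul_apply, Fin.sum_univ_two]

theorem neg_apply' (M : SpecialLinearGroup (Fin 2) F) (i j : Fin 2) :
    (-M : SpecialLinearGroup (Fin 2) F).1 i j = - M.1 i j := by
  rw [SpecialLinearGroup.coe_neg, Matrix.neg_apply]

theorem tr_neg (M : SpecialLinearGroup (Fin 2) F) : tr (-M) = - tr M := by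
  rw [tr, tr, neg_apply', neg_apply']; ring

theorem tr_mul_comm (M N : SpecialLinearGroup (Fin 2) F) : tr (M * N) = tr (N * M) := by
  rw [tr, tr, mul00, mul11, mul00, mul11]; ring

theorem tr_conj (g M : SpecialLinearGroup (Fin 2) F) : tr (g * M * g⁻¹) = tr M := by
  rw [tr_mul_comm, ← mul_assoc, inv_mul_cancel, one_mul]

/-- A nondegenerate binary quadratic form over a finite field represents one. -/
theorem exists_repr [Fintype F] (c e f : F) (h : e ^ 2 - 4 * c * f ≠ 0) :
    ∃ x y : F, c * x ^ 2 + e * x * y + f * y ^ 2 = 1 := by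
  by_cases h2 : (2 : F) = 0
  · have h4 : (4 : F) = 0 := by
      have : (4 : F) = 2 * 2 := by norm_num
      rw [this, h2, zero_mul]
    rw [h4, zero_mul, zero_mul, sub_zero] at h
    have he : e ≠ 0 := fun h0 => h (by rw [h0]; ring)
    have hc2 : ringChar F = 2 := by
      have h5 : ringChar F ∣ 2 := (ringChar.spec F 2).1 (by exact_mod_cast h2)
      rcases (Nat.dvd_prime Nat.prime_two).1 h5 with h6 | h6
      · exact absurd h6 (CharP.ringChar_ne_one)
      · exact h6
    by_cases hc : c = 0
    · by_cases hf : f = 0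
      · refine ⟨e⁻¹, 1, ?_⟩
        rw [hc, hf]
        field_simp
        ring
      · obtain ⟨s, hs⟩ := FiniteField.isSquare_of_char_two hc2 f⁻¹
        refine ⟨0, s, ?_⟩
        have : s ^ 2 = f⁻¹ := by rw [hs]; ring
        rw [this]
        field_simp
        ring
    · obtain ⟨s, hs⟩ := FiniteField.isSquare_of_char_two hc2 c⁻¹
      refine ⟨s, 0, ?_⟩
      have : s ^ 2 = c⁻¹ := by rw [hs]; ring
      rw [this]
      field_simp
      ring
  · by_cases hc : c = 0
    · have he : e ≠ 0 := fun h0 => h (by rw [h0, hc]; ring)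
      refine ⟨(1 - f) / e, 1, ?_⟩
      rw [hc]
      field_simp
      ring
    · set Δ := e ^ 2 - 4 * c * f with hΔ
      have hcard : Fintype.card F % 2 = 1 := by
        have := (Cfsg.Agent.ClassicalGeometry.PSL2Basic.two_ne_zero_iff_odd F).1 h2
        exact Nat.odd_iff.1 this
      obtain ⟨X, Y, hXY⟩ := FiniteField.exists_root_sum_quadratic
        (f := (Polynomial.X ^ 2 : Polynomial F))
        (g := Polynomial.C (-Δ) * Polynomial.X ^ 2 + Polynomial.C 0 * Polynomial.X +
          Polynomial.C (- (4 * c)))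
        (Polynomial.degree_X_pow 2)
        (Polynomial.degree_quadratic (neg_ne_zero.2 h)) hcard
      simp only [Polynomial.eval_pow, Polynomial.eval_X, Polynomial.eval_add, Polynomial.eval_mul,
        Polynomial.eval_C, zero_mul, add_zero] at hXY
      refine ⟨(X - e * Y) / (2 * c), Y, ?_⟩
      have h4c : (4 * c : F) ≠ 0 := by
        have : (4 : F) = 2 * 2 := by norm_num
        rw [this]
        exact mul_ne_zero (mul_ne_zero h2 h2) hc
      have h5 : X ^ 2 - Δ * Y ^ 2 = 4 * c := by linear_combination hXY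
      have h2c : (2 * c : F) ≠ 0 := mul_ne_zero h2 hc
      have hx : 2 * c * ((X - e * Y) / (2 * c)) + e * Y = X := by
        rw [mul_div_cancel₀ _ h2c]; ring
      generalize (X - e * Y) / (2 * c) = x at hx
      apply mul_left_cancel₀ h4c
      rw [mul_one]
      linear_combination h5 + (2 * c * x + e * Y + X) * hx + Y ^ 2 * hΔ

/-- The companion matrix. -/
def comp (t : F) : SpecialLinearGroup (Fin 2) F := mkSL 0 (-1) 1 t (by ring)

theorem exists_conj_comp [Fintype F] (M : SpecialLinearGroup (Fin 2) F) (h : tr M ^ 2 ≠ 4) :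
    ∃ g : SpecialLinearGroup (Fin 2) F, M = g * comp (tr M) * g⁻¹ := by
  have hdet := det_eq M
  obtain ⟨x, y, hxy⟩ := exists_repr (M.1 1 0) (M.1 1 1 - M.1 0 0) (- M.1 0 1) (by
    intro h0
    apply h
    rw [tr]
    linear_combination h0 + 4 * hdet)
  refine ⟨mkSL x (M.1 0 0 * x + M.1 0 1 * y) y (M.1 1 0 * x + M.1 1 1 * y) (by
    linear_combination hxy), ?_⟩
  rw [eq_mul_inv_iff_mul_eq]
  set a := M.1 0 0 with ha
  set b := M.1 0 1 with hb
  set c := M.1 1 0 with hc
  set e := M.1 1 1 with he
  apply ext4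
  · rw [mul00, mul00]
    simp only [mkSL, comp, tr, Matrix.of_apply, Matrix.cons_val', Matrix.cons_val_zero,
      Matrix.cons_val_one, Matrix.cons_val_fin_one]
    rw [← ha, ← hb]
    ring
  · rw [mul01, mul01]
    simp only [mkSL, comp, tr, Matrix.of_apply, Matrix.cons_val', Matrix.cons_val_zero,
      Matrix.cons_val_one, Matrix.cons_val_fin_one]
    rw [← ha, ← hb, ← he]
    linear_combination (-x) * hdet
  · rw [mul10, mul10]
    simp only [mkSL, comp, tr, Matrix.of_apply, Matrix.cons_val', Matrix.cons_val_zero,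
      Matrix.cons_val_one, Matrix.cons_val_fin_one]
    rw [← hc, ← he]
    ring
  · rw [mul11, mul11]
    simp only [mkSL, comp, tr, Matrix.of_apply, Matrix.cons_val', Matrix.cons_val_zero,
      Matrix.cons_val_one, Matrix.cons_val_fin_one]
    rw [← ha, ← hc, ← he]
    linear_combination (-y) * hdet

theorem exists_conj_of_tr_eq [Fintype F] {M N : SpecialLinearGroup (Fin 2) F} (hMN : tr M = tr N)
    (h : tr M ^ 2 ≠ 4) : ∃ g : SpecialLinearGroup (Fin 2) F, N = g * M * g⁻¹ := by
  obtain ⟨g, hg⟩ := exists_conj_comp M h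
  obtain ⟨k, hk⟩ := exists_conj_comp N (hMN ▸ h)
  refine ⟨k * g⁻¹, ?_⟩
  have h1 : g⁻¹ * M * g = comp (tr M) := by
    conv_lhs => rw [hg]
    group
  calc N = k * comp (tr M) * k⁻¹ := by rw [hMN]; exact hk
    _ = k * (g⁻¹ * M * g) * k⁻¹ := by rw [h1]
    _ = _ := by group

section count

variable [Fintype F]

theorem card_mul_eq [DecidableEq F] (x k : F) :
    Nat.card {y : F // x * y = k} =
      if x = 0 then (if k = 0 then Fintype.card F else 0) else 1 := by
  by_cases hx : x = 0
  · rw [if_pos hx]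
    by_cases hk : k = 0
    · rw [if_pos hk, ← Nat.card_eq_fintype_card]
      exact Nat.card_congr (Equiv.subtypeUnivEquiv (fun y => by rw [hx, hk, zero_mul]))
    · rw [if_neg hk, Nat.card_eq_zero]
      left
      exact ⟨fun ⟨y, hy⟩ => hk (by rw [← hy, hx, zero_mul])⟩
  · rw [if_neg hx, Nat.card_eq_one_iff_unique]
    refine ⟨⟨fun y z => Subtype.ext (mul_left_cancel₀ hx (y.2.trans z.2.symm))⟩,
      ⟨⟨x⁻¹ * k, mul_inv_cancel_left₀ hx k⟩⟩⟩

theorem card_prod_eq [DecidableEq F] (k : F) :
    Nat.card {p : F × F // p.1 * p.2 = k} =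
      Fintype.card F - 1 + (if k = 0 then Fintype.card F else 0) := by
  have e : {p : F × F // p.1 * p.2 = k} ≃ Σ x : F, {y : F // x * y = k} :=
    ⟨fun p => ⟨p.1.1, p.1.2, p.2⟩, fun s => ⟨(s.1, s.2.1), s.2.2⟩, fun p => rfl, fun s => rfl⟩
  rw [Nat.card_congr e, Nat.card_sigma]
  simp only [card_mul_eq]
  rw [Finset.sum_ite, Finset.sum_const, Finset.sum_const]
  have h1 : (Finset.univ.filter (fun x : F => x = 0)).card = 1 := by
    rw [Finset.filter_eq' Finset.univ (0 : F), if_pos (Finset.mem_univ _), Finset.card_singleton]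
  have h2 : (Finset.univ.filter (fun x : F => ¬ x = 0)).card = Fintype.card F - 1 := by
    have h3 := Finset.card_filter_add_card_filter_not (s := (Finset.univ : Finset F)) (fun x : F => x = 0)
    rw [h1, Finset.card_univ] at h3
    omega
  rw [h1, h2, one_smul, smul_eq_mul, mul_one, add_comm]

/-- The number of roots of `X ^ 2 - t X + 1`. -/
noncomputable def rho (t : F) : ℕ := Nat.card {a : F // a * (t - a) = 1}

/-- The number of matrices of determinant one and given trace. -/
theorem card_tr (t : F) : Nat.card {M : SpecialLinearGroup (Fin 2) F // tr M = t} =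
    Fintype.card F * (Fintype.card F - 1) + Fintype.card F * rho t := by
  classical
  have e : {M : SpecialLinearGroup (Fin 2) F // tr M = t} ≃
      Σ a : F, {p : F × F // p.1 * p.2 = a * (t - a) - 1} :=
    { toFun := fun M => ⟨M.1.1 0 0, (M.1.1 0 1, M.1.1 1 0), by
        have h1 := det_eq M.1
        have h2 : M.1.1 0 0 + M.1.1 1 1 = t := M.2
        show M.1.1 0 1 * M.1.1 1 0 = M.1.1 0 0 * (t - M.1.1 0 0) - 1
        linear_combination (-1) * h1 + (M.1.1 0 0) * h2⟩
      invFun := fun s => ⟨mkSL s.1 s.2.1.1 s.2.1.2 (t - s.1) (by rw [s.2.2]; ring), by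
        show s.1 + (t - s.1) = t
        ring⟩
      left_inv := by
        intro M
        apply Subtype.ext
        have h2 : M.1.1 0 0 + M.1.1 1 1 = t := M.2
        apply ext4
        · rfl
        · rfl
        · rfl
        · show t - M.1.1 0 0 = M.1.1 1 1
          linear_combination -h2
      right_inv := by
        rintro ⟨a, ⟨⟨b, c⟩, h⟩⟩
        rfl }
  rw [Nat.card_congr e, Nat.card_sigma]
  simp only [card_prod_eq]
  rw [Finset.sum_add_distrib, Finset.sum_const, Finset.card_univ, smul_eq_mul]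
  congr 1
  rw [Finset.sum_ite, Finset.sum_const_zero, add_zero, Finset.sum_const, smul_eq_mul, mul_comm,
    rho]
  congr 1
  rw [Nat.card_eq_fintype_card, Fintype.card_subtype]
  congr 1
  ext a
  simp only [Finset.mem_filter, Finset.mem_univ, true_and, sub_eq_zero]

theorem rho_cases (t : F) (ht : t ^ 2 ≠ 4) : rho t = 0 ∨ rho t = 2 := by
  classical
  by_cases h : ∃ a : F, a * (t - a) = 1
  · right
    obtain ⟨a, ha⟩ := h
    have hne : a ≠ t - a := by
      intro h0
      apply ht
      have h1 : t = 2 * a := by linear_combination -h0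
      rw [← h0] at ha
      rw [h1]
      linear_combination 4 * ha
    rw [rho, Nat.card_eq_fintype_card, Fintype.card_subtype]
    have : Finset.univ.filter (fun x : F => x * (t - x) = 1) = {a, t - a} := by
      ext x
      simp only [Finset.mem_filter, Finset.mem_univ, true_and, Finset.mem_insert,
        Finset.mem_singleton]
      constructor
      · intro hx
        have h1 : (x - a) * (t - a - x) = 0 := by linear_combination hx - ha
        rcases mul_eq_zero.1 h1 with h2 | h2
        · left; exact sub_eq_zero.1 h2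
        · right; exact (sub_eq_zero.1 h2).symm
      · rintro (rfl | rfl)
        · exact ha
        · linear_combination ha
    rw [this, Finset.card_pair hne]
  · left
    rw [rho, Nat.card_eq_zero]
    left
    exact ⟨fun x => h ⟨x.1, x.2⟩⟩

theorem rho_eq_zero_iff (t : F) : rho t = 0 ↔ ∀ a : F, a * (t - a) ≠ 1 := by
  rw [rho, Nat.card_eq_zero]
  constructor
  · rintro (h | h) a ha
    · exact h.false ⟨a, ha⟩
    · exact h.false
  · intro h
    left
    exact ⟨fun x => h x.1 x.2⟩

theorem exists_rho_zero : ∃ t : F, t ^ 2 ≠ 4 ∧ rho t = 0 := by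
  classical
  have h1 : ¬ Function.Surjective (fun u : Fˣ => (u : F) + (u : F)⁻¹) := by
    intro hs
    have := Fintype.card_le_of_surjective _ hs
    rw [Fintype.card_units] at this
    have := Fintype.card_pos (α := F)
    omega
  rw [Function.Surjective] at h1
  push Not at h1
  obtain ⟨t, ht⟩ := h1
  have h2 : ∀ a : F, a * (t - a) ≠ 1 := by
    intro a ha
    have ha0 : a ≠ 0 := by
      rintro rfl
      rw [zero_mul] at ha
      exact zero_ne_one ha
    apply ht (Units.mk0 a ha0)
    show a + a⁻¹ = t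
    have : a⁻¹ = t - a := by
      rw [inv_eq_iff_eq_inv]
      exact eq_inv_of_mul_eq_one_left ha
    rw [this]; ring
  refine ⟨t, ?_, (rho_eq_zero_iff t).2 h2⟩
  intro h4
  have h5 : (t - 2) * (t + 2) = 0 := by linear_combination h4
  rcases mul_eq_zero.1 h5 with h6 | h6
  · apply h2 1
    linear_combination h6
  · apply h2 (-1)
    linear_combination -h6

theorem exists_rho_two (hq : 4 ≤ Fintype.card F) : ∃ t : F, t ^ 2 ≠ 4 ∧ rho t = 2 := by
  classical
  -- an element with square different from one, nonzero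
  obtain ⟨l, hl0, hl1⟩ : ∃ l : F, l ≠ 0 ∧ l ^ 2 ≠ 1 := by
    by_contra hcon
    push Not at hcon
    have h1 : (Finset.univ : Finset F) ⊆ {0, 1, -1} := by
      intro x _
      simp only [Finset.mem_insert, Finset.mem_singleton]
      by_cases hx : x = 0
      · exact Or.inl hx
      · right
        have h2 := hcon x hx
        have h3 : (x - 1) * (x + 1) = 0 := by linear_combination h2
        rcases mul_eq_zero.1 h3 with h4 | h4
        · left; exact sub_eq_zero.1 h4
        · right; exact eq_neg_of_add_eq_zero_left h4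
    have h2 := Finset.card_le_card h1
    have h3 : ({0, 1, -1} : Finset F).card ≤ 3 := Finset.card_le_three
    rw [Finset.card_univ] at h2
    omega
  have h1 : (l + l⁻¹) ^ 2 ≠ 4 := by
    intro h0
    apply hl1
    have h2 : (l ^ 2 - 1) ^ 2 = 0 := by
      have h3 : l * l⁻¹ = 1 := mul_inv_cancel₀ hl0
      have h4 : (l ^ 2 + 1) ^ 2 = 4 * l ^ 2 := by
        have : (l ^ 2 + 1) = l * (l + l⁻¹) := by rw [mul_add, h3]; ring
        rw [this, mul_pow, h0]; ring
      linear_combination h4
    have h3 := pow_eq_zero_iff (two_ne_zero) |>.1 h2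
    exact sub_eq_zero.1 h3
  refine ⟨l + l⁻¹, h1, ?_⟩
  rcases rho_cases _ h1 with h2 | h2
  · exfalso
    rw [rho_eq_zero_iff] at h2
    apply h2 l
    rw [add_sub_cancel_left, mul_inv_cancel₀ hl0]
  · exact h2

end count

/-- The projective group. -/
abbrev PSL (F : Type*) [Field F] := Matrix.ProjectiveSpecialLinearGroup (Fin 2) F

/-- The image in `PSL(2, F)`. -/
def pj (A : SpecialLinearGroup (Fin 2) F) : PSL F := QuotientGroup.mk A

theorem pj_mul (A B : SpecialLinearGroup (Fin 2) F) : pj (A * B) = pj A * pj B := rfl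

theorem pj_inv (A : SpecialLinearGroup (Fin 2) F) : pj A⁻¹ = (pj A)⁻¹ := rfl

theorem pj_surj (x : PSL F) : ∃ A, pj A = x := QuotientGroup.mk_surjective x

theorem pj_eq {A B : SpecialLinearGroup (Fin 2) F} : pj A = pj B ↔ B = A ∨ B = -A := by
  rw [pj, pj, QuotientGroup.eq, Cfsg.Agent.ClassicalGeometry.PSL2Basic.mem_center_SL2_iff]
  constructor
  · rintro (h | h)
    · left; exact (inv_mul_eq_one.1 h).symm
    · right
      rw [inv_mul_eq_iff_eq_mul] at h
      rw [h, mul_neg, mul_one]
  · rintro (h | h)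
    · left; rw [h, inv_mul_cancel]
    · right
      rw [h, mul_neg, inv_mul_cancel]

theorem pj_neg (A : SpecialLinearGroup (Fin 2) F) : pj (-A) = pj A :=
  (pj_eq.2 (Or.inr rfl)).symm

theorem pj_one : pj (1 : SpecialLinearGroup (Fin 2) F) = 1 := rfl

section classes

variable [Fintype F]

/-- The class of `pj M`, `tr M ^ 2 ≠ 4`, is the image of the set of matrices of trace `tr M`. -/
theorem isConj_pj {M : SpecialLinearGroup (Fin 2) F} (h : tr M ^ 2 ≠ 4) {x : PSL F} :
    IsConj (pj M) x ↔ ∃ N, tr N = tr M ∧ pj N = x := by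
  constructor
  · intro hc
    obtain ⟨g, hg⟩ := isConj_iff.1 hc
    obtain ⟨g, rfl⟩ := pj_surj g
    exact ⟨g * M * g⁻¹, tr_conj g M, by rw [← hg]; rfl⟩
  · rintro ⟨N, hN, rfl⟩
    obtain ⟨g, hg⟩ := exists_conj_of_tr_eq hN.symm h
    rw [isConj_iff]
    exact ⟨pj g, by rw [hg]; rfl⟩

theorem ix_eq_card (x : PSL F) : ix x = Nat.card {y : PSL F // IsConj x y} :=
  (Cfsg.Agent.Blocks.Central.card_isConj x).symm

/-- Nonzero trace (or characteristic two): the class has as many elements as there are matrices. -/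
theorem ix_of_ne {M : SpecialLinearGroup (Fin 2) F} (h : tr M ^ 2 ≠ 4)
    (ht : 2 * tr M ≠ 0 ∨ (2 : F) = 0) :
    ix (pj M) = Nat.card {N : SpecialLinearGroup (Fin 2) F // tr N = tr M} := by
  rw [ix_eq_card]
  symm
  apply Nat.card_eq_of_bijective
    (fun N => (⟨pj N.1, (isConj_pj h).2 ⟨N.1, N.2, rfl⟩⟩ : {y : PSL F // IsConj (pj M) y}))
  constructor
  · rintro ⟨N, hN⟩ ⟨N', hN'⟩ heq
    have h1 : pj N = pj N' := congrArg Subtype.val heq
    apply Subtype.ext
    show N = N'
    rcases pj_eq.1 h1 with h2 | h2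
    · exact h2.symm
    · rcases ht with ht | ht
      · exfalso
        apply ht
        have h3 : tr N' = - tr N := by rw [h2, tr_neg]
        rw [hN, hN'] at h3
        linear_combination h3
      · rw [h2]
        apply ext4 <;> rw [neg_apply'] <;> linear_combination (N.1 _ _) * ht
  · rintro ⟨y, hy⟩
    obtain ⟨N, hN, rfl⟩ := (isConj_pj h).1 hy
    exact ⟨⟨N, hN⟩, rfl⟩

/-- Trace zero in odd characteristic. -/
theorem two_mul_ix_of_zero (h2 : (2 : F) ≠ 0) {M : SpecialLinearGroup (Fin 2) F} (ht : tr M = 0) :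
    2 * ix (pj M) = Nat.card {N : SpecialLinearGroup (Fin 2) F // tr N = 0} := by
  classical
  have h4 : tr M ^ 2 ≠ 4 := by
    rw [ht]
    intro h0
    apply h2
    have h5 : (2 : F) * 2 = 0 := by linear_combination -h0
    rcases mul_eq_zero.1 h5 with h6 | h6 <;> exact h6
  let f : {N : SpecialLinearGroup (Fin 2) F // tr N = 0} → {y : PSL F // IsConj (pj M) y} :=
    fun N => ⟨pj N.1, (isConj_pj h4).2 ⟨N.1, N.2.trans ht.symm, rfl⟩⟩
  rw [ix_eq_card, Nat.card_congr (Equiv.sigmaFiberEquiv f).symm, Nat.card_sigma]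
  have h5 : ∀ y : {y : PSL F // IsConj (pj M) y}, Nat.card {N // f N = y} = 2 := by
    rintro ⟨y, hy⟩
    obtain ⟨N, hN, rfl⟩ := (isConj_pj h4).1 hy
    rw [ht] at hN
    have hNN : N ≠ -N := by
      intro h0
      have h6 : ∀ i j, (2 : F) * N.1 i j = 0 := by
        intro i j
        have : N.1 i j = - N.1 i j := by
          conv_lhs => rw [h0]
          exact neg_apply' N i j
        linear_combination this
      have h7 := det_eq N
      have h8 : ∀ i j, N.1 i j = 0 := fun i j => (mul_eq_zero.1 (h6 i j)).resolve_left h2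
      rw [h8, h8, h8, h8] at h7
      simp at h7
    have hN' : tr (-N) = 0 := by rw [tr_neg, hN, neg_zero]
    rw [Nat.card_eq_two_iff]
    refine ⟨⟨⟨N, hN⟩, rfl⟩, ⟨⟨-N, hN'⟩, Subtype.ext (pj_neg N)⟩, ?_, ?_⟩
    · intro h0
      exact hNN (congrArg (fun z => z.1.1) h0)
    · ext ⟨⟨K, hK⟩, hf⟩
      simp only [Set.mem_insert_iff, Set.mem_singleton_iff, Set.mem_univ, iff_true]
      have h6 : pj K = pj N := congrArg Subtype.val hf
      rcases pj_eq.1 h6 with h7 | h7
      · left
        apply Subtype.ext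
        apply Subtype.ext
        exact h7.symm
      · right
        apply Subtype.ext
        apply Subtype.ext
        show K = -N
        rw [h7, neg_neg]
  rw [Finset.sum_congr rfl (fun y _ => h5 y), Finset.sum_const, smul_eq_mul, mul_comm,
    Finset.card_univ, ← Nat.card_eq_fintype_card]

/-- The upper unipotent matrices. -/
def up (s : F) : SpecialLinearGroup (Fin 2) F := mkSL 1 s 0 1 (by ring)

/-- A noncentral element with `tr M ^ 2 = 4` is conjugate to the image of `up s`, `s ≠ 0`. -/
theorem exists_conj_up {M : SpecialLinearGroup (Fin 2) F} (hM : pj M ≠ 1) (h : tr M ^ 2 = 4) :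
    ∃ s : F, s ≠ 0 ∧ ∃ g : PSL F, pj M = g * pj (up s) * g⁻¹ := by
  -- reduce to trace 2
  have key : ∀ M : SpecialLinearGroup (Fin 2) F, pj M ≠ 1 → tr M = 2 →
      ∃ s : F, s ≠ 0 ∧ ∃ g : PSL F, pj M = g * pj (up s) * g⁻¹ := by
    intro M hM ht
    have hdet := det_eq M
    rw [tr] at ht
    obtain ⟨x, y, hxy, h1, h2⟩ : ∃ x y : F, (x ≠ 0 ∨ y ≠ 0) ∧ M.1 0 0 * x + M.1 0 1 * y = x ∧
        M.1 1 0 * x + M.1 1 1 * y = y := by
      by_cases h0 : M.1 0 1 = 0 ∧ M.1 0 0 = 1
      · obtain ⟨h01, h00⟩ := h0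
        refine ⟨0, 1, Or.inr one_ne_zero, by rw [h01]; ring, ?_⟩
        rw [h00] at ht
        linear_combination ht
      · refine ⟨M.1 0 1, 1 - M.1 0 0, ?_, by ring, ?_⟩
        · by_contra hcon
          push Not at hcon
          exact h0 ⟨hcon.1, (sub_eq_zero.1 hcon.2).symm⟩
        · linear_combination ht - hdet
    obtain ⟨z, w, hzw⟩ : ∃ z w : F, x * w - z * y = 1 := by
      rcases hxy with hx | hy
      · exact ⟨0, x⁻¹, by rw [mul_inv_cancel₀ hx]; ring⟩
      · exact ⟨-y⁻¹, 0, by rw [neg_mul, inv_mul_cancel₀ hy]; ring⟩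
    set g := mkSL x z y w hzw with hg
    set s := (g⁻¹ * M * g).1 0 1 with hs
    have hgM : g⁻¹ * M * g = up s := by
      have e1 : M * g = g * mkSL 1 ((M.1 0 0 * z + M.1 0 1 * w) * w - (M.1 1 0 * z + M.1 1 1 * w) * z)
          0 1 (by ring) := by
        apply ext4
        · rw [mul00, mul00]
          show M.1 0 0 * x + M.1 0 1 * y = x * 1 + z * 0
          rw [h1]; ring
        · rw [mul01, mul01]
          show M.1 0 0 * z + M.1 0 1 * w = x * ((M.1 0 0 * z + M.1 0 1 * w) * w -
            (M.1 1 0 * z + M.1 1 1 * w) * z) + z * 1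
          set A := M.1 0 0
          set B := M.1 0 1
          set C := M.1 1 0
          set D := M.1 1 1
          -- trace 2 gives the second diagonal entry 1
          have h3 : (C * z + D * w) * x - (A * z + B * w) * y = 1 := by
            linear_combination (-w) * h1 + z * h2 + (A + D - 1) * hzw + ht
          linear_combination (-(A * z + B * w)) * hzw + z * h3
        · rw [mul10, mul10]
          show M.1 1 0 * x + M.1 1 1 * y = y * 1 + w * 0
          rw [h2]; ring
        · rw [mul11, mul11]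
          show M.1 1 0 * z + M.1 1 1 * w = y * ((M.1 0 0 * z + M.1 0 1 * w) * w -
            (M.1 1 0 * z + M.1 1 1 * w) * z) + w * 1
          set A := M.1 0 0
          set B := M.1 0 1
          set C := M.1 1 0
          set D := M.1 1 1
          have h3 : (C * z + D * w) * x - (A * z + B * w) * y = 1 := by
            linear_combination (-w) * h1 + z * h2 + (A + D - 1) * hzw + ht
          linear_combination (-(C * z + D * w)) * hzw + w * h3
      have e2 : g⁻¹ * M * g = mkSL 1 ((M.1 0 0 * z + M.1 0 1 * w) * w -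
          (M.1 1 0 * z + M.1 1 1 * w) * z) 0 1 (by ring) := by
        rw [mul_assoc, e1, inv_mul_cancel_left]
      rw [hs, e2]
      rfl
    have hM' : M = g * up s * g⁻¹ := by
      rw [← hgM]; group
    refine ⟨s, ?_, pj g, ?_⟩
    · intro hs0
      apply hM
      have : up (0 : F) = 1 := by
        apply ext4 <;> rfl
      rw [hM', hs0, this, mul_one, mul_inv_cancel]
      rfl
    · rw [hM']
      rfl
  have h5 : (tr M - 2) * (tr M + 2) = 0 := by linear_combination h
  rcases mul_eq_zero.1 h5 with h6 | h6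
  · exact key M hM (sub_eq_zero.1 h6)
  · have := key (-M) (by rwa [pj_neg]) (by rw [tr_neg]; linear_combination -h6)
    rwa [pj_neg] at this

theorem card_centralizer_up {s : F} (hs : s ≠ 0) :
    Nat.card (Subgroup.centralizer ({pj (up s)} : Set (PSL F))) = Fintype.card F := by
  rw [← Nat.card_eq_fintype_card]
  symm
  have hcomm : ∀ c : F, pj (up c) ∈ Subgroup.centralizer ({pj (up s)} : Set (PSL F)) := by
    intro c
    rw [mem_C, ← pj_mul, ← pj_mul]
    congr 1
    apply ext4
    · rw [mul00, mul00]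
      show 1 * 1 + c * 0 = 1 * 1 + s * 0
      ring
    · rw [mul01, mul01]
      show 1 * s + c * 1 = 1 * c + s * 1
      ring
    · rw [mul10, mul10]; rfl
    · rw [mul11, mul11]
      show 0 * s + 1 * 1 = 0 * c + 1 * 1
      ring
  apply Nat.card_eq_of_bijective (fun c : F =>
    (⟨pj (up c), hcomm c⟩ : Subgroup.centralizer ({pj (up s)} : Set (PSL F))))
  constructor
  · intro c c' h
    have h1 : pj (up c) = pj (up c') := congrArg Subtype.val h
    rcases pj_eq.1 h1 with h2 | h2
    · have := congrArg (fun M : SpecialLinearGroup (Fin 2) F => M.1 0 1) h2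
      exact (show c' = c from this).symm
    · have e1 := congrArg (fun M : SpecialLinearGroup (Fin 2) F => M.1 0 1) h2
      have e2 := congrArg (fun M : SpecialLinearGroup (Fin 2) F => M.1 0 0) h2
      have e1' : c' = -c := e1.trans (neg_apply' (up c) 0 1)
      have e2' : (1 : F) = -1 := e2.trans (neg_apply' (up c) 0 0)
      rw [e1']
      linear_combination c * e2'
  · rintro ⟨x, hx⟩
    obtain ⟨g, rfl⟩ := pj_surj x
    rw [mem_C, ← pj_mul, ← pj_mul] at hx
    have hcom : g * up s = up s * g := by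
      rcases pj_eq.1 hx with h1 | h1
      · exact h1.symm
      · -- traces
        have h2 : up s = g * (-(up s)) * g⁻¹ := by
          rw [eq_mul_inv_iff_mul_eq, h1]
          apply ext4 <;> simp only [neg_apply', mul00, mul01, mul10, mul11] <;> ring
        have h3 : tr (up s) = tr (-(up s)) := by
          conv_lhs => rw [h2]
          exact tr_conj _ _
        rw [tr_neg] at h3
        have h4 : tr (up s) = 2 := by
          show (1 : F) + 1 = 2
          norm_num
        rw [h4] at h3
        have h5 : ∀ i j, (-(up s) : SpecialLinearGroup (Fin 2) F).1 i j = (up s).1 i j := by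
          intro i j
          rw [neg_apply']
          have h6 : (4 : F) = 0 := by linear_combination h3
          have h7 : (2 : F) * 2 = 0 := by linear_combination h6
          have h8 : (2 : F) = 0 := by rcases mul_eq_zero.1 h7 with h | h <;> exact h
          linear_combination (-(up s).1 i j) * h8
        have h6 : (-(up s) : SpecialLinearGroup (Fin 2) F) = up s :=
          ext4 (h5 0 0) (h5 0 1) (h5 1 0) (h5 1 1)
        rw [h6] at h2
        rw [eq_mul_inv_iff_mul_eq] at h2
        exact h2.symm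
    have e00 := congrArg (fun M : SpecialLinearGroup (Fin 2) F => M.1 0 0) hcom
    have e01 := congrArg (fun M : SpecialLinearGroup (Fin 2) F => M.1 0 1) hcom
    simp only [mul00, mul01] at e00 e01
    have e00' : g.1 0 0 * 1 + g.1 0 1 * 0 = 1 * g.1 0 0 + s * g.1 1 0 := e00
    have e01' : g.1 0 0 * s + g.1 0 1 * 1 = 1 * g.1 0 1 + s * g.1 1 1 := e01
    have h10 : g.1 1 0 = 0 := by
      have : s * g.1 1 0 = 0 := by linear_combination -e00'
      exact (mul_eq_zero.1 this).resolve_left hs
    have h11 : g.1 0 0 = g.1 1 1 := by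
      have : s * (g.1 0 0 - g.1 1 1) = 0 := by linear_combination e01'
      exact sub_eq_zero.1 ((mul_eq_zero.1 this).resolve_left hs)
    have hdet := det_eq g
    rw [h10, ← h11] at hdet
    have h12 : (g.1 0 0 - 1) * (g.1 0 0 + 1) = 0 := by linear_combination hdet
    rcases mul_eq_zero.1 h12 with h13 | h13
    · have h14 := sub_eq_zero.1 h13
      refine ⟨g.1 0 1, Subtype.ext ?_⟩
      show pj (up (g.1 0 1)) = pj g
      congr 1
      apply ext4
      · exact h14.symm
      · rfl
      · exact h10.symm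
      · rw [← h11]; exact h14.symm
    · have h14 : g.1 0 0 = -1 := eq_neg_of_add_eq_zero_left h13
      refine ⟨- g.1 0 1, Subtype.ext ?_⟩
      show pj (up (- g.1 0 1)) = pj g
      rw [← pj_neg g]
      congr 1
      apply ext4 <;> rw [neg_apply']
      · rw [h14, neg_neg]; rfl
      · rfl
      · rw [h10, neg_zero]; rfl
      · rw [← h11, h14, neg_neg]; rfl

end classes

end Cfsg.Agent.H402.PSL2Cls
end
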