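import Mathlib
import Cfsg.Agent.StandardComponent.AltAut
import Cfsg.Agent.LFourA.AltPsiAut
import Cfsg.Agent.FastGrp
import Cfsg.Agent.Prune
set_option linter.all false
prune_inst 0x7f00000000000000000000000000000000000000000000000000000000000000000000000000000000000000000000000000000000000000000000000000000000000000000000000000000000000000003fffffffffffffffffffffffffffbeffbdffffffff
open scoped Cfsg.Agent.FastGrp

/-!
# Element orders and automorphisms of alternating groups (for S3585)
-/

set_option autoImplicit false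

namespace Cfsg.Agent.H402.AltG

open Equiv Equiv.Perm Subgroup

theorem exists_alt {m : ℕ} (c : Multiset ℕ) (h1 : c.sum ≤ m) (h2 : ∀ a ∈ c, 2 ≤ a)
    (h3 : Even (c.sum + Multiset.card c)) : ∃ g : alternatingGroup (Fin m), orderOf g = c.lcm := by
  obtain ⟨g, hg⟩ := (Equiv.Perm.exists_with_cycleType_iff (α := Fin m) (m := c)).2
    ⟨by rw [Fintype.card_fin]; exact h1, h2⟩
  refine ⟨⟨g, ?_⟩, ?_⟩
  · rw [Equiv.Perm.mem_alternatingGroup, Equiv.Perm.sign_of_cycleType, hg, h3.neg_one_pow]
  · rw [Subgroup.orderOf_mk, ← Equiv.Perm.lcm_cycleType, hg]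

/-- Odd distinct primes. -/
theorem exists_two {m s t : ℕ} (hs : s.Prime) (ht : t.Prime) (hst : s ≠ t) (hs2 : s ≠ 2) (ht2 : t ≠ 2)
    (h : s + t ≤ m) : ∃ g : alternatingGroup (Fin m), orderOf g = s * t := by
  obtain ⟨g, hg⟩ := exists_alt (m := m) {s, t} (by simpa using h)
    (by
      intro a ha
      simp only [Multiset.insert_eq_cons, Multiset.mem_cons, Multiset.mem_singleton] at ha
      rcases ha with rfl | rfl
      · exact hs.two_le
      · exact ht.two_le)
    (by
      have h1 := hs.odd_of_ne_two hs2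
      have h2 := ht.odd_of_ne_two ht2
      simp only [Multiset.insert_eq_cons, Multiset.sum_cons, Multiset.sum_singleton, Multiset.card_cons,
        Multiset.card_singleton]
      have h3 := h1.add_odd h2
      exact h3.add (by norm_num))
  refine ⟨g, ?_⟩
  rw [hg]
  simp only [Multiset.insert_eq_cons, Multiset.lcm_cons, Multiset.lcm_singleton]
  rw [normalize_eq, lcm_eq_nat_lcm]
  exact ((Nat.coprime_primes hs ht).2 hst).lcm_eq_mul

theorem exists_two2 {m r : ℕ} (hr : r.Prime) (hr2 : r ≠ 2) (h : r + 4 ≤ m) :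
    ∃ g : alternatingGroup (Fin m), orderOf g = r * 2 := by
  obtain ⟨g, hg⟩ := exists_alt (m := m) {r, 2, 2} (by
      simp only [Multiset.insert_eq_cons, Multiset.sum_cons, Multiset.sum_singleton]
      omega)
    (by
      intro a ha
      simp only [Multiset.insert_eq_cons, Multiset.mem_cons, Multiset.mem_singleton] at ha
      rcases ha with rfl | rfl | rfl
      · exact hr.two_le
      · exact le_refl 2
      · exact le_refl 2)
    (by
      have h1 := hr.odd_of_ne_two hr2
      simp only [Multiset.insert_eq_cons, Multiset.sum_cons, Multiset.sum_singleton, Multiset.card_cons,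
        Multiset.card_singleton]
      obtain ⟨k, hk⟩ := h1
      exact ⟨k + 4, by omega⟩)
  refine ⟨g, ?_⟩
  rw [hg]
  simp only [Multiset.insert_eq_cons, Multiset.lcm_cons, Multiset.lcm_singleton]
  rw [normalize_eq, lcm_eq_nat_lcm, lcm_eq_nat_lcm, Nat.lcm_self]
  exact ((Nat.coprime_primes hr Nat.prime_two).2 hr2).lcm_eq_mul

theorem exists_pw {m p a : ℕ} (hp : p.Prime) (hp2 : p ≠ 2) (ha : 1 ≤ a) (h : p ^ a ≤ m) :
    ∃ g : alternatingGroup (Fin m), orderOf g = p ^ a := by
  obtain ⟨g, hg⟩ := exists_alt (m := m) {p ^ a} (by simpa using h)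
    (by
      intro b hb
      rw [Multiset.mem_singleton] at hb
      rw [hb]
      exact hp.two_le.trans (Nat.le_self_pow (by omega) p))
    (by
      have h1 : Odd (p ^ a) := (hp.odd_of_ne_two hp2).pow
      rw [Multiset.sum_singleton, Multiset.card_singleton]
      exact h1.add_odd odd_one)
  refine ⟨g, ?_⟩
  rw [hg, Multiset.lcm_singleton, normalize_eq]

theorem exists_pw2 {m a : ℕ} (ha : 1 ≤ a) (h : 2 ^ a + 2 ≤ m) :
    ∃ g : alternatingGroup (Fin m), orderOf g = 2 ^ a := by
  have h2 : 2 ∣ 2 ^ a := dvd_pow_self 2 (by omega)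
  obtain ⟨g, hg⟩ := exists_alt (m := m) {2 ^ a, 2} (by simpa using h)
    (by
      intro b hb
      simp only [Multiset.insert_eq_cons, Multiset.mem_cons, Multiset.mem_singleton] at hb
      rcases hb with rfl | rfl
      · exact Nat.le_self_pow (by omega) 2
      · exact le_refl 2)
    (by
      simp only [Multiset.insert_eq_cons, Multiset.sum_cons, Multiset.sum_singleton, Multiset.card_cons,
        Multiset.card_singleton]
      obtain ⟨k, hk⟩ := h2
      exact ⟨k + 2, by omega⟩)
  refine ⟨g, ?_⟩
  rw [hg]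
  simp only [Multiset.insert_eq_cons, Multiset.lcm_cons, Multiset.lcm_singleton]
  rw [normalize_eq, lcm_eq_nat_lcm]
  exact Nat.lcm_eq_left h2

/-- A permutation whose cycle lengths are large is a cycle. -/
theorem big_type {m k : ℕ} (g : Perm (Fin m)) (hk : m < 2 * k) (h : ∀ r : ℕ, r.Prime → r ∣ orderOf g → k ≤ r) :
    orderOf g ≤ m ∨ orderOf g = 1 := by
  have h1 : ∀ a ∈ g.cycleType, k ≤ a := by
    intro a ha
    have h2 := Equiv.Perm.two_le_of_mem_cycleType ha
    have h3 := Nat.minFac_prime (n := a) (by omega)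
    have h4 := h _ h3 ((Nat.minFac_dvd a).trans (Equiv.Perm.dvd_of_mem_cycleType ha))
    exact h4.trans (Nat.minFac_le (by omega))
  have h5 := g.sum_cycleType
  have h6 := Finset.card_le_univ g.support
  rw [Fintype.card_fin, ← h5] at h6
  rw [← Equiv.Perm.lcm_cycleType]
  by_cases h0 : g.cycleType = 0
  · right
    rw [h0]
    rfl
  · left
    obtain ⟨a, ha⟩ := Multiset.exists_mem_of_ne_zero h0
    obtain ⟨t, ht⟩ := Multiset.exists_cons_of_mem ha
    rcases t.empty_or_exists_mem with h7 | ⟨b, hb⟩
    · rw [ht, h7, Multiset.lcm_cons, Multiset.lcm_zero, lcm_one_right, normalize_eq]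
      rw [ht, h7] at h6
      simpa using h6
    · exfalso
      obtain ⟨u, hu⟩ := Multiset.exists_cons_of_mem hb
      have h8 := h1 a ha
      have h9 := h1 b (by rw [ht]; exact Multiset.mem_cons_of_mem hb)
      rw [ht, hu] at h6
      simp only [Multiset.sum_cons] at h6
      omega

theorem nine {m : ℕ} (hm : m ≤ 7) (g : Perm (Fin m)) : orderOf g ≠ 9 := by
  intro h
  have h1 : ∀ a ∈ g.cycleType, a ∣ 3 := by
    intro a ha
    have h2 := Equiv.Perm.dvd_of_mem_cycleType ha
    rw [h] at h2
    have h3 := Equiv.Perm.two_le_of_mem_cycleType ha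
    have h5 := g.sum_cycleType
    have h6 := Finset.card_le_univ g.support
    rw [Fintype.card_fin, ← h5] at h6
    have h7 : a ≤ 7 := (Multiset.le_sum_of_mem ha).trans (h6.trans hm)
    have h8 := Nat.le_of_dvd (by norm_num) h2
    interval_cases a <;> revert h2 <;> decide
  have h2 : orderOf g ∣ 3 := by
    rw [← Equiv.Perm.lcm_cycleType, Multiset.lcm_dvd]
    exact h1
  rw [h] at h2
  revert h2
  decide

theorem prime_le {m r : ℕ} (hr : r.Prime) (g : Perm (Fin m)) (h : r ∣ orderOf g) : r ≤ m := by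
  have h1 := h.trans (orderOf_dvd_card (x := g))
  rw [Fintype.card_perm, Fintype.card_fin] at h1
  exact (hr.dvd_factorial).1 h1

/-- Fourth powers of automorphisms of `A_m` are inner. -/
theorem inner_four {m : ℕ} (hm : 5 ≤ m) (α : MulAut (alternatingGroup (Fin m))) :
    ∃ s : alternatingGroup (Fin m), α ^ 4 = MulAut.conj s := by
  have key : ∀ β : MulAut (alternatingGroup (Fin m)), (∃ σ : Perm (Fin m), ∀ x : alternatingGroup (Fin m),
      (β x : Perm (Fin m)) = σ * x * σ⁻¹) → ∃ s : alternatingGroup (Fin m), β ^ 2 = MulAut.conj s := by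
    rintro β ⟨σ, hσ⟩
    refine ⟨⟨σ ^ 2, ?_⟩, ?_⟩
    · rw [Equiv.Perm.mem_alternatingGroup, map_pow]
      exact Int.units_sq _
    · ext x
      rw [pow_two, MulAut.mul_apply, hσ, hσ, MulAut.conj_apply]
      simp only [Subgroup.coe_mul, Subgroup.coe_inv, pow_two]
      group
  have h6 : ∃ σ : Perm (Fin m), ∀ x : alternatingGroup (Fin m), ((α ^ 2) x : Perm (Fin m)) = σ * x * σ⁻¹ := by
    rcases Nat.lt_or_ge m 7 with h7 | h7
    · rcases (by omega : m = 5 ∨ m = 6) with rfl | rfl
      · refine Cfsg.Agent.LFourA.AltPsiAut.exists_conj_of_three (m := 3) (by norm_num) (α ^ 2) ?_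
        intro i hi
        set c : alternatingGroup (Fin (3 + 2)) := Cfsg.Agent.SporadicRecognition.AltCover.cy 3 i hi with hc
        have h1 : orderOf c = 3 := by
          rw [← Subgroup.orderOf_coe, hc]
          exact (Cfsg.Agent.StandardComponent.AltAut.isThreeCycle_cyc hi).orderOf
        have ho : orderOf ((((α ^ 2) c : alternatingGroup (Fin (3 + 2))) : Perm (Fin (3 + 2)))) = 3 := by
          rw [Subgroup.orderOf_coe, MulEquiv.orderOf_eq, h1]
        obtain ⟨j, hj⟩ := cycleType_prime_order
          (σ := (((α ^ 2) c : alternatingGroup (Fin (3 + 2))) : Perm (Fin (3 + 2))))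
          (by rw [ho]; exact Nat.prime_three)
        rw [ho] at hj
        have hsum : 3 * (j + 1) ≤ 5 := by
          have h := (((α ^ 2) c : alternatingGroup (Fin (3 + 2))) : Perm (Fin (3 + 2))).sum_cycleType
          have h' := Finset.card_le_univ
            (((α ^ 2) c : alternatingGroup (Fin (3 + 2))) : Perm (Fin (3 + 2))).support
          rw [← h, hj, Multiset.sum_replicate, Fintype.card_fin, smul_eq_mul] at h'
          omega
        have hj0 : j = 0 := by omega
        subst hj0
        exact hj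
      · have h1 : α ^ 2 ∈ Cfsg.Agent.LFourA.AltPsiAut.NE := by
          by_cases h : α ∈ Cfsg.Agent.LFourA.AltPsiAut.NE
          · exact pow_mem h 2
          · have h2 : α⁻¹ ∉ Cfsg.Agent.LFourA.AltPsiAut.NE := fun h3 => h (by simpa using inv_mem h3)
            have h3 := Cfsg.Agent.LFourA.AltPsiAut.inv_mul_mem h2 h
            rwa [inv_inv, ← pow_two] at h3
        exact Cfsg.Agent.LFourA.AltPsiAut.exists_perm h1
    · obtain ⟨k, rfl⟩ : ∃ k, m = k + 2 := ⟨m - 2, by omega⟩
      exact Cfsg.Agent.StandardComponent.AltAut.exists_conj (by omega) (α ^ 2)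
  obtain ⟨s, hs⟩ := key _ h6
  exact ⟨s, by rw [← hs, ← pow_mul]⟩

end Cfsg.Agent.H402.AltG
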