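import Cfsg.Agent.H402.PSL2Cls
import Cfsg.Agent.Blocks.PElements
import Cfsg.Agent.Characters.DegreeBounds
import Cfsg.Agent.Blocks.Central
import Cfsg.Agent.S1230
import Cfsg.Agent.S0118
import Cfsg.Agent.S0731
import Cfsg.Agent.ClassicalGeometry.PSL2Basic
import Cfsg.Agent.LieClassical.FieldTransfer
import Cfsg.Agent.H402.PSL2Sizes
set_option linter.all false

-- part: H402/CsQuot
section
/-!
# Groups with the class sizes of `PSL(2, q)`: centralisers in `G / Z(G)`
-/

set_option autoImplicit false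
set_option linter.unusedSectionVars false

namespace Cfsg.Agent.H402

open Subgroup

section general

variable {G : Type*} [Group G]

theorem mem_of_pow_mem_of_coprime {H : Subgroup G} {g : G} {m n : ℕ} (hmn : m.Coprime n)
    (hm : g ^ m ∈ H) (hn : g ^ n ∈ H) : g ∈ H := by
  obtain ⟨u, v, huv⟩ := Nat.isCoprime_iff_coprime.2 hmn
  have : g = (g ^ m) ^ u * (g ^ n) ^ v := by
    rw [← zpow_natCast, ← zpow_natCast, ← zpow_mul, ← zpow_mul, ← zpow_add]
    have : (m : ℤ) * u + n * v = 1 := by rw [← huv]; ring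
    rw [this, zpow_one]
  rw [this]
  exact mul_mem (zpow_mem hm u) (zpow_mem hn v)

/-- The commutator relation modulo the centre. -/
theorem exists_center_of_comm_mk {g u : G}
    (hc : Commute (QuotientGroup.mk g : G ⧸ center G) (QuotientGroup.mk u)) :
    ∃ c ∈ center G, g * u * g⁻¹ = c * u := by
  refine ⟨g * u * g⁻¹ * u⁻¹, ?_, by group⟩
  rw [← QuotientGroup.eq_one_iff]
  have h1 : (QuotientGroup.mk (g * u * g⁻¹ * u⁻¹) : G ⧸ center G) =
    QuotientGroup.mk g * QuotientGroup.mk u * (QuotientGroup.mk g)⁻¹ * (QuotientGroup.mk u)⁻¹ := rfl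
  rw [h1, hc.eq]
  group

theorem conj_pow_left {g u c : G} (hc : c ∈ center G) (h : g * u * g⁻¹ = c * u) (n : ℕ) :
    g ^ n * u * (g ^ n)⁻¹ = c ^ n * u := by
  induction n with
  | zero => simp
  | succ n ih =>
    have hcn : g * c ^ n = c ^ n * g := mem_center_iff.1 (pow_mem hc n) g
    calc g ^ (n + 1) * u * (g ^ (n + 1))⁻¹ = g * (g ^ n * u * (g ^ n)⁻¹) * g⁻¹ := by
          rw [pow_succ' g n]; group
      _ = (g * c ^ n) * u * g⁻¹ := by rw [ih]; group
      _ = c ^ n * (g * u * g⁻¹) := by rw [hcn]; group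
      _ = c ^ (n + 1) * u := by rw [h, pow_succ]; group

theorem conj_pow_right {g u c : G} (hc : c ∈ center G) (h : g * u * g⁻¹ = c * u) (n : ℕ) :
    g * u ^ n * g⁻¹ = c ^ n * u ^ n := by
  have h1 : Commute c u := (mem_center_iff.1 hc u).symm
  rw [← h1.mul_pow, ← h, conj_pow]

/-- Elements of coprime orders which commute modulo the centre commute. -/
theorem comm_of_coprime {g u : G}
    (hc : Commute (QuotientGroup.mk g : G ⧸ center G) (QuotientGroup.mk u))
    (ho : (orderOf g).Coprime (orderOf u)) : Commute g u := by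
  obtain ⟨c, hcc, h⟩ := exists_center_of_comm_mk hc
  have h1 : c ^ orderOf g = 1 := by
    have := conj_pow_left hcc h (orderOf g)
    rw [pow_orderOf_eq_one] at this
    simpa using this.symm
  have h2 : c ^ orderOf u = 1 := by
    have := conj_pow_right hcc h (orderOf u)
    rw [pow_orderOf_eq_one] at this
    simpa using this.symm
  have h3 : c = 1 := by
    have := Nat.eq_one_of_dvd_coprimes ho (orderOf_dvd_of_pow_eq_one h1)
      (orderOf_dvd_of_pow_eq_one h2)
    exact orderOf_eq_one_iff.1 this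
  rw [h3, one_mul] at h
  exact mul_inv_eq_iff_eq_mul.1 h

/-- If `u` is a `p`-element with class size prime to `p` then an element commuting with `u` modulo
the centre commutes with `u`. -/
theorem comm_of_comm_mk [Finite G] {p : ℕ} [hp : Fact p.Prime] {g u : G}
    (hu : ∃ k, orderOf u = p ^ k) (hix : ¬ p ∣ ix u)
    (hc : Commute (QuotientGroup.mk g : G ⧸ center G) (QuotientGroup.mk u)) : Commute g u := by
  set N : Subgroup G := (Subgroup.centralizer ({(QuotientGroup.mk u : G ⧸ center G)} :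
    Set (G ⧸ center G))).comap (QuotientGroup.mk' (center G)) with hN
  have hmemN : ∀ x : G, x ∈ N ↔ Commute (QuotientGroup.mk x : G ⧸ center G) (QuotientGroup.mk u) := by
    intro x
    rw [hN, mem_comap, mem_C]
    rfl
  have hCN : Subgroup.centralizer ({u} : Set G) ≤ N := by
    intro x hx
    rw [hmemN]
    have := mem_C.1 hx
    show (QuotientGroup.mk (x * u) : G ⧸ center G) = QuotientGroup.mk (u * x)
    rw [this]
  have hnorm : ((Subgroup.centralizer ({u} : Set G)).subgroupOf N).Normal := by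
    refine ⟨fun x hx n => ?_⟩
    rw [mem_subgroupOf, mem_C] at hx ⊢
    have hn : Commute (QuotientGroup.mk (n : G)⁻¹ : G ⧸ center G) (QuotientGroup.mk u) := by
      have := (hmemN n).1 n.2
      exact this.inv_left
    obtain ⟨c, hcc, h1⟩ := exists_center_of_comm_mk hn
    have hcx := mem_center_iff.1 hcc (x : G)
    have h2 : (n : G)⁻¹ * u * n = c * u := by simpa using h1
    have h3 : (x : G) * ((n : G)⁻¹ * u * n) = ((n : G)⁻¹ * u * n) * x := by
      rw [h2, ← mul_assoc, hcx, mul_assoc, hx, mul_assoc]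
    calc ((n * x * n⁻¹ : N) : G) * u = (n : G) * (x * ((n : G)⁻¹ * u * n)) * (n : G)⁻¹ := by
          push_cast; group
      _ = (n : G) * (((n : G)⁻¹ * u * n) * x) * (n : G)⁻¹ := by rw [h3]
      _ = _ := by push_cast; group
  have hg : g ∈ N := (hmemN g).2 hc
  obtain ⟨c, hcc, h⟩ := exists_center_of_comm_mk hc
  obtain ⟨k, hk⟩ := hu
  have h1 : g ^ (p ^ k) ∈ Subgroup.centralizer ({u} : Set G) := by
    have h2 : c ^ orderOf u = 1 := by
      have := conj_pow_right hcc h (orderOf u)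
      rw [pow_orderOf_eq_one] at this
      simpa using this.symm
    have h3 := conj_pow_left hcc h (p ^ k)
    rw [← hk, h2, one_mul, hk] at h3
    rw [mem_C]
    exact mul_inv_eq_iff_eq_mul.1 h3
  have h2 : g ^ ((Subgroup.centralizer ({u} : Set G)).subgroupOf N).index ∈
      Subgroup.centralizer ({u} : Set G) := by
    have := Subgroup.pow_index_mem ((Subgroup.centralizer ({u} : Set G)).subgroupOf N) ⟨g, hg⟩
    rw [mem_subgroupOf] at this
    exact this
  have h3 : ¬ p ∣ ((Subgroup.centralizer ({u} : Set G)).subgroupOf N).index := by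
    intro h4
    apply hix
    rw [ix, ← Subgroup.relIndex_mul_index hCN]
    exact h4.mul_right _
  have h4 := mem_of_pow_mem_of_coprime
    (Nat.Coprime.pow_left k ((Nat.Prime.coprime_iff_not_dvd hp.out).2 h3)) h1 h2
  exact mem_C.1 h4

/-- Every `p`-element of `G / Z(G)` lifts to a `p`-element. -/
theorem exists_lift [Finite G] {p : ℕ} (hp : p.Prime) {x : G ⧸ center G}
    (hx : ∃ k, orderOf x = p ^ k) :
    ∃ g : G, (QuotientGroup.mk g : G ⧸ center G) = x ∧ ∃ k, orderOf g = p ^ k := by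
  obtain ⟨g, rfl⟩ := QuotientGroup.mk_surjective x
  obtain ⟨s, t, hs, ht, hst, hcst, hk, htp, hcop⟩ := exists_decomp g hp
  refine ⟨s, ?_, hk⟩
  obtain ⟨k, hk⟩ := hx
  have h1 : (QuotientGroup.mk t : G ⧸ center G) = 1 := by
    rw [← orderOf_eq_one_iff]
    apply Nat.eq_one_of_dvd_coprimes (htp.pow_right k)
    · exact orderOf_map_dvd (QuotientGroup.mk' (center G)) t
    · rw [← hk]
      obtain ⟨m, rfl⟩ := mem_zpowers_iff.1 ht
      exact orderOf_dvd_of_mem_zpowers (mem_zpowers_iff.2 ⟨m, rfl⟩)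
  rw [← hst]
  show _ = (QuotientGroup.mk s * QuotientGroup.mk t : G ⧸ center G)
  rw [h1, mul_one]

theorem ix_mk_of_comm [Finite G] {u : G}
    (h : ∀ g : G, Commute (QuotientGroup.mk g : G ⧸ center G) (QuotientGroup.mk u) → Commute g u) :
    ix (QuotientGroup.mk u : G ⧸ center G) = ix u := by
  have h1 : Subgroup.centralizer ({(QuotientGroup.mk u : G ⧸ center G)} : Set (G ⧸ center G)) =
      (Subgroup.centralizer ({u} : Set G)).map (QuotientGroup.mk' (center G)) := by
    ext x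
    obtain ⟨g, rfl⟩ := QuotientGroup.mk_surjective x
    rw [mem_C, mem_map]
    constructor
    · intro hx
      exact ⟨g, mem_C.2 (h g hx).eq, rfl⟩
    · rintro ⟨y, hy, hyx⟩
      rw [← hyx]
      show (QuotientGroup.mk (y * u) : G ⧸ center G) = QuotientGroup.mk (u * y)
      rw [mem_C.1 hy]
  rw [ix, h1, ix]
  apply Subgroup.index_map_eq _ (QuotientGroup.mk'_surjective _)
  rw [QuotientGroup.ker_mk']
  exact center_le_C u

end general

namespace Hyp

variable {G : Type*} [Group G] [Finite G] {q d a b r : ℕ} (h : Hyp G q d a b r)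

include h

theorem card_Q : Nat.card (G ⧸ center G) = q * d * a * b := h.index_center

theorem mk_ne_one {u : G} : (QuotientGroup.mk u : G ⧸ center G) ≠ 1 ↔ u ∉ center G := by
  rw [Ne, QuotientGroup.eq_one_iff]

/-- The `r`-elements. -/
theorem ix_r {u : G} (hu : u ∉ center G) (hk : ∃ k, orderOf u = r ^ k) : ix u = d * a * b := by
  have h1 := h.ty_pElement h.hr (((h.dvd_q_iff h.hr).2 rfl).mul_right a |>.mul_right b) hu hk
  rw [tyP, if_pos ((h.dvd_q_iff h.hr).2 rfl), ty] at h1
  split_ifs at h1 with h2 h3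
  exact h2

theorem r_not_dvd : ¬ r ∣ d * a * b := by
  intro h1
  have hr := (h.dvd_q_iff h.hr).2 rfl
  rcases h.hr.dvd_mul.1 h1 with h2 | h2
  · rcases h.hr.dvd_mul.1 h2 with h3 | h3
    · exact h.not_dvd_of_coprime h.coprime_qd h.hr hr h3
    · exact h.not_dvd_of_coprime h.hqa h.hr hr h3
  · exact h.not_dvd_of_coprime h.hqb h.hr hr h2

theorem ixQ_r {x : G ⧸ center G} (hx : x ≠ 1) (hk : ∃ k, orderOf x = r ^ k) :
    ix x = d * a * b := by
  have : Fact r.Prime := ⟨h.hr⟩
  obtain ⟨u, rfl, hu⟩ := exists_lift h.hr hk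
  have huc := h.mk_ne_one.1 hx
  have h1 := h.ix_r huc hu
  rw [ix_mk_of_comm, h1]
  intro g hg
  exact comm_of_comm_mk hu (by rw [h1]; exact h.r_not_dvd) hg

theorem cardC_r {x : G ⧸ center G} (hx : x ≠ 1) (hk : ∃ k, orderOf x = r ^ k) :
    Nat.card (Subgroup.centralizer ({x} : Set (G ⧸ center G))) = q := by
  have h1 := (Subgroup.centralizer ({x} : Set (G ⧸ center G))).card_mul_index
  have h2 : (Subgroup.centralizer ({x} : Set (G ⧸ center G))).index = d * a * b := h.ixQ_r hx hk
  rw [h2, h.card_Q] at h1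
  have h3 : q * d * a * b = q * (d * a * b) := by ring
  rw [h3] at h1
  have ha := h.ha
  have hb := h.hb
  have hd := h.d_pos
  exact Nat.eq_of_mul_eq_mul_right (by positivity) h1

/-- Nontrivial elements of different types do not commute in `G / Z(G)`. -/
theorem no_comm {p s : ℕ} (hp : p.Prime) (hs : s.Prime) (hps : p ≠ s) (hpd : p ∣ q * a * b)
    (hsd : s ∣ q * a * b) (hty : tyP q b p ≠ tyP q b s) {x y : G ⧸ center G} (hx : x ≠ 1)
    (hy : y ≠ 1) (hxk : ∃ k, orderOf x = p ^ k) (hyk : ∃ k, orderOf y = s ^ k) :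
    ¬ Commute x y := by
  intro hc
  obtain ⟨u, rfl, hu⟩ := exists_lift hp hxk
  obtain ⟨v, rfl, hv⟩ := exists_lift hs hyk
  have huc := h.mk_ne_one.1 hx
  have hvc := h.mk_ne_one.1 hy
  have hcop : (orderOf u).Coprime (orderOf v) := by
    obtain ⟨k, hk⟩ := hu
    obtain ⟨l, hl⟩ := hv
    rw [hk, hl]
    exact Nat.Coprime.pow k l ((Nat.coprime_primes hp hs).2 hps)
  have h1 := h.ty_comm huc hvc (comm_of_coprime hc hcop) hcop
  rw [h.ty_pElement hp hpd huc hu, h.ty_pElement hs hsd hvc hv] at h1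
  exact hty h1

theorem not_dvd_cardC {p s : ℕ} (hp : p.Prime) (hs : s.Prime) (hps : p ≠ s) (hpd : p ∣ q * a * b)
    (hsd : s ∣ q * a * b) (hty : tyP q b p ≠ tyP q b s) {x : G ⧸ center G} (hx : x ≠ 1)
    (hxk : ∃ k, orderOf x = p ^ k) :
    ¬ s ∣ Nat.card (Subgroup.centralizer ({x} : Set (G ⧸ center G))) := by
  intro hdvd
  have : Fact s.Prime := ⟨hs⟩
  obtain ⟨y, hy⟩ := exists_prime_orderOf_dvd_card' s hdvd
  have hy1 : (y : G ⧸ center G) ≠ 1 := by
    intro h0
    have : y = 1 := Subtype.ext h0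
    rw [this, orderOf_one] at hy
    exact hs.one_lt.ne hy
  apply h.no_comm hp hs hps hpd hsd hty hx hy1 hxk ⟨1, by rw [Subgroup.orderOf_coe, hy, pow_one]⟩
  exact (mem_C.1 y.2).symm

theorem exists_other {p : ℕ} (hp : p.Prime) (hpr : p ≠ r) (hpd : p ∣ a * b) :
    ∃ s, s.Prime ∧ s ≠ r ∧ s ∣ a * b ∧ s ≠ p ∧ tyP q b p ≠ tyP q b s := by
  have ha := h.ha
  have hb := h.hb
  rcases hp.dvd_mul.1 hpd with h1 | h1
  · obtain ⟨s, hs, hsb⟩ := Nat.exists_prime_and_dvd (show b ≠ 1 by omega)
    refine ⟨s, hs, ?_, hsb.mul_left a, ?_, ?_⟩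
    · rintro rfl
      exact h.not_dvd_of_coprime h.hqb.symm hs hsb ((h.dvd_q_iff hs).2 rfl)
    · rintro rfl
      exact h.not_dvd_of_coprime h.hab hp h1 hsb
    · rw [tyP, tyP, if_neg (h.not_dvd_of_coprime h.hqa.symm hp h1),
        if_neg (h.not_dvd_of_coprime h.hab hp h1), if_neg (h.not_dvd_of_coprime h.hqb.symm hs hsb),
        if_pos hsb]
      norm_num
  · obtain ⟨s, hs, hsa⟩ := Nat.exists_prime_and_dvd (show a ≠ 1 by omega)
    refine ⟨s, hs, ?_, hsa.mul_right b, ?_, ?_⟩
    · rintro rfl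
      exact h.not_dvd_of_coprime h.hqa.symm hs hsa ((h.dvd_q_iff hs).2 rfl)
    · rintro rfl
      exact h.not_dvd_of_coprime h.hab hp hsa h1
    · rw [tyP, tyP, if_neg (h.not_dvd_of_coprime h.hqb.symm hp h1), if_pos h1,
        if_neg (h.not_dvd_of_coprime h.hqa.symm hs hsa),
        if_neg (h.not_dvd_of_coprime h.hab hs hsa)]
      norm_num

/-- `q` divides the class size (in `G / Z(G)`) of a nontrivial `p`-element, `p ≠ r`, and so does
some other prime. -/
theorem lt_ixQ {p : ℕ} (hp : p.Prime) (hpr : p ≠ r) {x : G ⧸ center G} (hx : x ≠ 1)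
    (hxk : ∃ k, orderOf x = p ^ k) : q ∣ ix x ∧ 2 * q ≤ ix x := by
  have hcard := (Subgroup.centralizer ({x} : Set (G ⧸ center G))).card_mul_index
  rw [h.card_Q] at hcard
  have hq := h.q_gt
  -- p divides a b
  have hpQ : p ∣ q * d * a * b := by
    rw [← h.card_Q]
    obtain ⟨k, hk⟩ := hxk
    have hk0 : k ≠ 0 := by
      rintro rfl
      rw [pow_zero, orderOf_eq_one_iff] at hk
      exact hx hk
    exact (dvd_pow_self p hk0).trans (hk ▸ orderOf_dvd_natCard x)
  have hpq : ¬ p ∣ q := fun h1 => hpr ((h.dvd_q_iff hp).1 h1)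
  have hpab : p ∣ a * b := by
    rcases hp.dvd_mul.1 hpQ with h1 | h1
    · rcases hp.dvd_mul.1 h1 with h1 | h1
      · rcases hp.dvd_mul.1 h1 with h1 | h1
        · exact absurd h1 hpq
        · rcases h.hd with ⟨rfl, -⟩ | ⟨rfl, -, he⟩
          · exact absurd (Nat.dvd_one.1 h1) hp.one_lt.ne'
          · exact (h1.trans (even_iff_two_dvd.1 he)).mul_right b
      · exact h1.mul_right b
    · exact h1.mul_left a
  have hpqab : p ∣ q * a * b := by rw [mul_assoc]; exact hpab.mul_left q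
  have hrq := (h.dvd_q_iff h.hr).2 rfl
  have hrqab : r ∣ q * a * b := (hrq.mul_right a).mul_right b
  have htr : tyP q b p ≠ tyP q b r := by
    rw [tyP, tyP, if_neg hpq, if_pos hrq]
    split_ifs <;> norm_num
  have h1 := h.not_dvd_cardC hp h.hr hpr hpqab hrqab htr hx hxk
  have h2 : q ∣ ix x := by
    obtain ⟨f, hf, hqf⟩ := h.hq
    have : q.Coprime (Nat.card (Subgroup.centralizer ({x} : Set (G ⧸ center G)))) := by
      rw [hqf]
      exact Nat.Coprime.pow_left f ((Nat.Prime.coprime_iff_not_dvd h.hr).2 h1)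
    apply this.dvd_of_dvd_mul_left
    show q ∣ _ * (Subgroup.centralizer ({x} : Set (G ⧸ center G))).index
    rw [hcard]
    exact ⟨d * a * b, by ring⟩
  refine ⟨h2, ?_⟩
  obtain ⟨s, hs, hsr, hsab, hsp, hts⟩ := h.exists_other hp hpr hpab
  have hsqab : s ∣ q * a * b := by rw [mul_assoc]; exact hsab.mul_left q
  have h3 := h.not_dvd_cardC hp hs hsp.symm hpqab hsqab hts hx hxk
  have h4 : s ∣ ix x := by
    have : s.Coprime (Nat.card (Subgroup.centralizer ({x} : Set (G ⧸ center G)))) :=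
      (Nat.Prime.coprime_iff_not_dvd hs).2 h3
    apply this.dvd_of_dvd_mul_left
    show s ∣ _ * (Subgroup.centralizer ({x} : Set (G ⧸ center G))).index
    rw [hcard]
    exact hsqab.trans ⟨d, by ring⟩
  have h5 : s.Coprime q := by
    rw [Nat.Prime.coprime_iff_not_dvd hs]
    intro h6
    exact hsr ((h.dvd_q_iff hs).1 h6)
  have h6 : s * q ∣ ix x := h5.mul_dvd_of_dvd_of_dvd h4 h2
  have h7 := Nat.le_of_dvd (Nat.pos_of_ne_zero (ix_ne_zero x)) h6
  have h8 := hs.two_le
  nlinarith

end Hyp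

end Cfsg.Agent.H402
end

-- part: H402/CsEven
section
/-!
# Groups with the class sizes of `PSL(2, q)`, `q` even: `G / Z(G) ≅ PSL(2, q)`
-/

set_option autoImplicit false
set_option linter.unusedSectionVars false

namespace Cfsg.Agent.H402

open Subgroup

/-- **Frobenius**: the number of `p`-elements is divisible by the `p`-part of the group order. -/
theorem dvd_card_pElements (G : Type*) [Group G] [Finite G] (p : ℕ) [hp : Fact p.Prime] :
    p ^ (Nat.card G).factorization p ∣ Nat.card {x : G // ∃ k : ℕ, orderOf x = p ^ k} := by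
  classical
  obtain ⟨a, ha, hsum⟩ := Cfsg.Agent.Blocks.PElements.exists_integral_sum_pElements
    (G := G) (p := p) (Cfsg.Agent.Characters.Core.isCharacter_one (G := G))
  have h1 : ∑ᶠ x ∈ Cfsg.Agent.Blocks.PElements.pElements G p, (1 : G → ℂ) x =
      (Nat.card {x : G // ∃ k : ℕ, orderOf x = p ^ k} : ℂ) := by
    have hfin : (Cfsg.Agent.Blocks.PElements.pElements G p).Finite := Set.toFinite _
    rw [finsum_mem_eq_finite_toFinset_sum _ hfin]
    simp only [Pi.one_apply, Finset.sum_const, nsmul_eq_mul, mul_one]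
    congr 1
    rw [← Set.ncard_eq_toFinset_card _ hfin]
    rfl
  rw [h1] at hsum
  have hne : p ^ (Nat.card G).factorization p ≠ 0 := pow_ne_zero _ hp.out.ne_zero
  apply Cfsg.Agent.Characters.DegreeBounds.nat_dvd_of_isIntegral_div hne
  rw [hsum, mul_div_cancel_left₀]
  · exact ha
  · exact_mod_cast hne

/-- A set of elements closed under conjugation, all with class size `m`, has order divisible by
`m`. -/
theorem dvd_card_of_classes {G : Type*} [Group G] [Finite G] (P : G → Prop) (m : ℕ)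
    (hconj : ∀ x g : G, P x → P (g * x * g⁻¹)) (hm : ∀ x : G, P x → ix x = m) :
    m ∣ Nat.card {x : G // P x} := by
  classical
  have := Fintype.ofFinite G
  -- partition by conjugacy classes
  let f : {x : G // P x} → ConjClasses G := fun x => ConjClasses.mk x.1
  have h1 : Nat.card {x : G // P x} = ∑ c : ConjClasses G, Nat.card {x : {x : G // P x} // f x = c} := by
    rw [Nat.card_congr (Equiv.sigmaFiberEquiv f).symm, Nat.card_sigma]
  rw [h1]
  apply Finset.dvd_sum
  intro c _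
  by_cases hc : ∃ x : {x : G // P x}, f x = c
  · obtain ⟨⟨x, hx⟩, rfl⟩ := hc
    have h2 : Nat.card {y : {x : G // P x} // f y = f ⟨x, hx⟩} = Nat.card {y : G | IsConj x y} := by
      apply Nat.card_congr
      refine ⟨fun y => ⟨y.1.1, (ConjClasses.mk_eq_mk_iff_isConj.1 y.2).symm⟩,
        fun y => ⟨⟨y.1, ?_⟩, ?_⟩, fun y => rfl, fun y => rfl⟩
      · obtain ⟨g, hg⟩ := isConj_iff.1 y.2
        rw [← hg]
        exact hconj x g hx
      · exact ConjClasses.mk_eq_mk_iff_isConj.2 (show IsConj x y.1 from y.2).symm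
    rw [h2, Cfsg.Agent.Blocks.Central.card_isConj x]
    exact (hm x hx).symm ▸ dvd_rfl
  · have : IsEmpty {x : {x : G // P x} // f x = c} := ⟨fun x => hc ⟨x.1, x.2⟩⟩
    rw [Nat.card_of_isEmpty]
    exact dvd_zero m

/-- Abstract counting: if all nontrivial `2`-elements have class size `m = q ^ 2 - 1`, where
`|Q| = q m`, then all `2`-elements have order at most two. -/
theorem sq_of_counting {Q : Type*} [Group Q] [Finite Q] {q m : ℕ} (hcardQ : Nat.card Q = q * m) (hqfac : 2 ^ (Nat.card Q).factorization 2 = q)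
    (hmq : m + 1 = q ^ 2)
    (hix : ∀ x : Q, x ≠ 1 → (∃ k, orderOf x = 2 ^ k) → ix x = m) {x : Q}
    (hx : ∃ k, orderOf x = 2 ^ k) : x * x = 1 := by
  have : Fact (Nat.Prime 2) := ⟨Nat.prime_two⟩
  by_contra hxx
  -- the nontrivial 2-elements
  set S : Q → Prop := fun x => x ≠ 1 ∧ ∃ k, orderOf x = 2 ^ k with hS
  set I : Q → Prop := fun x => x ≠ 1 ∧ x * x = 1 with hI
  have hIS : ∀ x, I x → S x := by
    rintro x ⟨hx1, hx2⟩
    refine ⟨hx1, 1, ?_⟩
    rw [pow_one]
    exact orderOf_eq_prime (by rw [pow_two]; exact hx2) hx1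
  have hconjo : ∀ x g : Q, orderOf (g * x * g⁻¹) = orderOf x := fun x g =>
    orderOf_injective (MulAut.conj g).toMonoidHom (MulAut.conj g).injective x
  have hSdvd : m ∣ Nat.card {x : Q // S x} := by
    apply dvd_card_of_classes S m
    · rintro x g ⟨hx1, k, hk⟩
      refine ⟨fun h0 => hx1 (conj_eq_one_iff.1 h0), k, by rw [hconjo, hk]⟩
    · rintro x ⟨hx1, hk⟩
      exact hix x hx1 hk
  have hIdvd : m ∣ Nat.card {x : Q // I x} := by
    apply dvd_card_of_classes I m
    · rintro x g ⟨hx1, hxx⟩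
      refine ⟨fun h0 => hx1 (conj_eq_one_iff.1 h0), ?_⟩
      calc g * x * g⁻¹ * (g * x * g⁻¹) = g * (x * x) * g⁻¹ := by group
        _ = 1 := by rw [hxx]; group
    · rintro x hx
      have := hIS x hx
      exact hix x this.1 this.2
  -- |S| + 1 is divisible by q
  have hfr := dvd_card_pElements Q 2
  rw [hqfac] at hfr
  have hcardS : Nat.card {x : Q // ∃ k : ℕ, orderOf x = 2 ^ k} = Nat.card {x : Q // S x} + 1 := by
    have h1 : Nat.card {x : Q // S x} = Set.ncard {x : Q | S x} := rfl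
    have h2 : Nat.card {x : Q // ∃ k : ℕ, orderOf x = 2 ^ k} =
      Set.ncard {x : Q | ∃ k : ℕ, orderOf x = 2 ^ k} := rfl
    rw [h1, h2]
    have h3 : {x : Q | ∃ k : ℕ, orderOf x = 2 ^ k} = insert 1 {x : Q | S x} := by
      ext y
      constructor
      · intro hy
        by_cases hy1 : y = 1
        · exact Or.inl hy1
        · exact Or.inr ⟨hy1, hy⟩
      · rintro (rfl | hy)
        · exact ⟨0, by simp⟩
        · exact hy.2
    rw [h3, Set.ncard_insert_of_notMem (fun h0 => h0.1 rfl) (Set.toFinite _)]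
  rw [hcardS] at hfr
  have hx1 : x ≠ 1 := by rintro rfl; exact hxx (mul_one _)
  -- |I| < |S|
  have hIpos : 0 < Nat.card {x : Q // I x} := by
    rw [Nat.card_pos_iff]
    refine ⟨?_, inferInstance⟩
    have h2 : 2 ∣ Nat.card Q := by
      obtain ⟨k, hk⟩ := hx
      have hk0 : k ≠ 0 := by
        rintro rfl
        rw [pow_zero, orderOf_eq_one_iff] at hk
        exact hx1 hk
      exact (dvd_pow_self 2 hk0).trans (hk ▸ _root_.orderOf_dvd_natCard x)
    obtain ⟨t, ht⟩ := exists_prime_orderOf_dvd_card' 2 h2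
    refine ⟨⟨t, ?_, ?_⟩⟩
    · intro h0
      rw [h0, orderOf_one] at ht
      omega
    · rw [← pow_two, ← ht, pow_orderOf_eq_one]
  have hlt : Nat.card {x : Q // I x} < Nat.card {x : Q // S x} := by
    have hss : {x : Q | I x} ⊂ {x : Q | S x} :=
      (Set.ssubset_iff_of_subset (fun y hy => hIS y hy)).2 ⟨x, ⟨hx1, hx⟩, fun h0 => hxx h0.2⟩
    exact Set.ncard_lt_ncard hss (Set.toFinite _)
  -- |S| < |Q|
  have hSle : Nat.card {x : Q // S x} < q * m := by
    rw [← hcardQ]
    have hss : {x : Q | S x} ⊂ Set.univ := by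
      rw [Set.ssubset_univ_iff]
      intro h0
      have : (1 : Q) ∈ {x : Q | S x} := by rw [h0]; trivial
      exact this.1 rfl
    have := Set.ncard_lt_ncard hss (Set.toFinite _)
    rw [Set.ncard_univ] at this
    exact this
  obtain ⟨c, hc⟩ := hSdvd
  obtain ⟨c', hc'⟩ := hIdvd
  rw [hc, hc'] at hlt
  rw [hc'] at hIpos
  have hc'1 : 1 ≤ c' := Nat.pos_of_mul_pos_left hIpos
  have hcc : 2 ≤ c := by
    have := Nat.lt_of_mul_lt_mul_left hlt
    omega
  have hcq : c < q := by
    rw [hc, mul_comm q m] at hSle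
    exact Nat.lt_of_mul_lt_mul_left hSle
  rw [hc] at hfr
  -- q ∣ m c + 1, m + 1 = q ^ 2, so q ∣ c - 1
  have h5 : q ∣ c - 1 := by
    have h6 : (m * c + 1) + (c - 1) = q ^ 2 * c := by
      rw [← hmq, add_mul]
      omega
    have h7 : q ∣ (m * c + 1) + (c - 1) := by
      rw [h6, pow_two, mul_assoc]
      exact dvd_mul_right q _
    exact (Nat.dvd_add_right hfr).1 h7
  have := Nat.le_of_dvd (by omega) h5
  omega

theorem even_abs {Q : Type*} [Group Q] [Finite Q] {q m : ℕ} (hq4 : 4 ≤ q)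
    (hqfac : 2 ^ (Nat.card Q).factorization 2 = q) (hmq : m + 1 = q ^ 2)
    (hsqall : ∀ x : Q, (∃ k, orderOf x = 2 ^ k) → x * x = 1)
    (hcardC : ∀ x : Q, x ≠ 1 → (∃ k, orderOf x = 2 ^ k) →
      Nat.card (Subgroup.centralizer ({x} : Set Q)) = q)
    (hixQ : ∀ x : Q, x ≠ 1 → (∃ k, orderOf x = 2 ^ k) → ix x = m) :
    ∃ (F : Type) (_ : Field F) (_ : Fintype F), Fintype.card F = q ∧
      Nonempty (Q ≃* Matrix.ProjectiveSpecialLinearGroup (Fin 2) F) := by
  have : Fact (Nat.Prime 2) := ⟨Nat.prime_two⟩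
  obtain ⟨T⟩ : Nonempty (Sylow 2 Q) := inferInstance
  have hTcard : Nat.card T = q := by rw [T.card_eq_multiplicity, hqfac]
  have hTsq : ∀ x ∈ (T : Subgroup Q), x * x = 1 := by
    intro x hx
    apply hsqall
    obtain ⟨k, hk⟩ := (IsPGroup.iff_orderOf.1 T.2) ⟨x, hx⟩
    exact ⟨k, by rw [← hk, Subgroup.orderOf_mk]⟩
  have hTcard' : Nat.card (T : Subgroup Q) = q := hTcard
  have hnc : ¬ IsCyclic (T : Subgroup Q) := by
    intro hcyc
    obtain ⟨g, hg⟩ := hcyc.exists_generator
    have h1 : orderOf g = Nat.card (T : Subgroup Q) := orderOf_eq_card_of_forall_mem_zpowers hg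
    have h2 : orderOf g ∣ 2 := by
      apply orderOf_dvd_of_pow_eq_one
      rw [pow_two]
      exact Subtype.ext (hTsq g g.2)
    have h3 : Nat.card (T : Subgroup Q) ≤ 2 := h1 ▸ Nat.le_of_dvd two_pos h2
    omega
  have hC : ∀ t : Q, orderOf t = 2 → IsMulCommutative (Subgroup.centralizer ({t} : Set Q)) ∧
      ∀ c ∈ Subgroup.centralizer ({t} : Set Q), c ^ 2 = 1 := by
    intro t ht
    have ht1 : t ≠ 1 := by
      rintro rfl
      rw [orderOf_one] at ht
      omega
    have hcard := hcardC t ht1 ⟨1, by rw [ht, pow_one]⟩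
    have hsq : ∀ c ∈ Subgroup.centralizer ({t} : Set Q), c * c = 1 := by
      intro c hc
      apply hsqall
      have h1 : orderOf (⟨c, hc⟩ : Subgroup.centralizer ({t} : Set Q)) ∣
          2 ^ (Nat.card Q).factorization 2 := by
        rw [hqfac, ← hcard]
        exact _root_.orderOf_dvd_natCard _
      rw [Subgroup.orderOf_mk] at h1
      obtain ⟨k, -, hk⟩ := (Nat.dvd_prime_pow Nat.prime_two).1 h1
      exact ⟨k, hk⟩
    refine ⟨⟨⟨fun x y => ?_⟩⟩, fun c hc => by rw [pow_two]; exact hsq c hc⟩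
    have hall : ∀ x : Subgroup.centralizer ({t} : Set Q), x * x = 1 := fun x =>
      Subtype.ext (hsq x x.2)
    have h1 := hall x
    have h2 := hall y
    have h3 := hall (x * y)
    have hx : x⁻¹ = x := inv_eq_of_mul_eq_one_left h1
    have hy : y⁻¹ = y := inv_eq_of_mul_eq_one_left h2
    have hxy : (x * y)⁻¹ = x * y := inv_eq_of_mul_eq_one_left h3
    rw [← hxy, mul_inv_rev, hx, hy]
  have hnn : ¬ (T : Subgroup Q).Normal := by
    intro hn
    have h4 : (T : Subgroup Q) ≠ ⊥ := by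
      intro h0
      rw [h0] at hTcard'
      rw [Subgroup.card_bot] at hTcard'
      omega
    obtain ⟨⟨t, htT⟩, ht⟩ := Subgroup.ne_bot_iff_exists_ne_one.1 h4
    have ht1 : t ≠ 1 := fun h0 => ht (Subtype.ext h0)
    have hk : ∃ k, orderOf t = 2 ^ k := by
      obtain ⟨k, hk⟩ := (IsPGroup.iff_orderOf.1 T.2) ⟨t, htT⟩
      exact ⟨k, by rw [← hk, Subgroup.orderOf_mk]⟩
    have h1 := hixQ t ht1 hk
    have h2 : Nat.card {x : Q | IsConj t x} = m := by
      rw [Cfsg.Agent.Blocks.Central.card_isConj t]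
      exact h1
    have h3 : Nat.card {x : Q | IsConj t x} ≤ Nat.card (T : Subgroup Q) := by
      apply Nat.card_mono (Set.toFinite _)
      intro x hx
      obtain ⟨g, hg⟩ := isConj_iff.1 (show IsConj t x from hx)
      rw [← hg]
      exact hn.conj_mem t htT g
    rw [h2, hTcard'] at h3
    have : q ^ 2 ≤ q + 1 := by omega
    nlinarith
  obtain ⟨F, hF1, hF2, hF3, hF4⟩ := Cfsg.Agent.S1230.result T hnc hnn hC
  exact ⟨F, hF1, hF2, hF3.trans hTcard, hF4⟩

namespace Hyp

variable {G : Type*} [Group G] [Finite G] {q d a b r : ℕ} (h : Hyp G q d a b r)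

include h

theorem d_eq_one_of_even (hq2 : Even q) : d = 1 := by
  rcases h.hd with ⟨h1, -⟩ | ⟨-, h1, -⟩
  · exact h1
  · exact absurd hq2 (Nat.not_even_iff_odd.2 h1)

theorem factorization_Q {r' : ℕ} (hr' : r' = r) :
    r' ^ (Nat.card (G ⧸ center G)).factorization r' = q := by
  subst hr'
  obtain ⟨f, hf, hqf⟩ := h.hq
  have ha := h.ha
  have hb := h.hb
  have hd := h.d_pos
  have hq1 := h.q_gt
  have e : q * d * a * b = q * (d * a * b) := by ring
  rw [h.card_Q, e, Nat.factorization_mul (by omega) (by positivity), Finsupp.add_apply,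
    Nat.factorization_eq_zero_of_not_dvd h.r_not_dvd, add_zero, hqf]
  congr 1
  rw [h.hr.factorization_pow]
  simp

/-- For `q` even all nontrivial `2`-elements of `G / Z(G)` are involutions. -/
theorem sq_of_even (hq2 : Even q) (habq : a * b + 1 = q ^ 2) {x : G ⧸ center G}
    (hx : ∃ k, orderOf x = 2 ^ k) : x * x = 1 := by
  have hr2 : 2 = r := ((h.dvd_q_iff Nat.prime_two).1 (even_iff_two_dvd.1 hq2))
  have hd1 : d = 1 := h.d_eq_one_of_even hq2
  have ha := h.ha
  have hb := h.hb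
  apply sq_of_counting (m := a * b) _ (h.factorization_Q hr2) habq _ hx
  · rw [h.card_Q, hd1]; ring
  · intro x hx hk
    rw [h.ixQ_r hx (hr2 ▸ hk), hd1, one_mul]

/-- **The even case.** -/
theorem even_case (hq2 : Even q) (habq : a * b + 1 = q ^ 2) (hq4 : 4 ≤ q) :
    ∃ (F : Type) (_ : Field F) (_ : Fintype F), Fintype.card F = q ∧
      Nonempty ((G ⧸ center G) ≃* Matrix.ProjectiveSpecialLinearGroup (Fin 2) F) := by
  have hr2 : 2 = r := ((h.dvd_q_iff Nat.prime_two).1 (even_iff_two_dvd.1 hq2))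
  have hd1 : d = 1 := h.d_eq_one_of_even hq2
  apply even_abs hq4 (h.factorization_Q hr2) habq
  · intro x hx
    exact h.sq_of_even hq2 habq hx
  · intro x hx hk
    exact h.cardC_r hx (hr2 ▸ hk)
  · intro x hx hk
    rw [h.ixQ_r hx (hr2 ▸ hk), hd1, one_mul]

end Hyp

end Cfsg.Agent.H402
end

-- part: H402/CsOdd
section
/-!
# Groups with the class sizes of `PSL(2, q)`, `q` odd
-/

set_option autoImplicit false
set_option linter.unusedSectionVars false

namespace Cfsg.Agent.H402

open Subgroup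

/-- The unipotent matrix. -/
def upz (r : ℕ) (t : ZMod r) : Matrix.SpecialLinearGroup (Fin 2) (ZMod r) :=
  ⟨!![1, t; 0, 1], by simp [Matrix.det_fin_two]⟩

theorem upz_coe (r : ℕ) (t : ZMod r) :
    ((upz r t : Matrix.SpecialLinearGroup (Fin 2) (ZMod r)) : Matrix (Fin 2) (Fin 2) (ZMod r)) =
      !![1, t; 0, 1] := rfl

theorem upz_mul (r : ℕ) (s t : ZMod r) : upz r s * upz r t = upz r (s + t) := by
  apply Matrix.SpecialLinearGroup.ext
  intro i j
  rw [Matrix.SpecialLinearGroup.coe_mul, upz_coe, upz_coe, upz_coe]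
  fin_cases i <;> fin_cases j <;> simp [Matrix.mul_apply, Fin.sum_univ_two, add_comm]

theorem upz_zero (r : ℕ) : upz r 0 = 1 := by
  apply Matrix.SpecialLinearGroup.ext
  intro i j
  rw [Matrix.SpecialLinearGroup.coe_one, upz_coe]
  fin_cases i <;> fin_cases j <;> simp

theorem upz_pow (r : ℕ) (n : ℕ) : upz r 1 ^ n = upz r n := by
  induction n with
  | zero => rw [pow_zero, Nat.cast_zero, upz_zero]
  | succ n ih => rw [pow_succ, ih, upz_mul]; push_cast; rfl

theorem exists_order_two_mul (r : ℕ) [hr : Fact r.Prime] (hr2 : r ≠ 2) :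
    ∃ s : Matrix.SpecialLinearGroup (Fin 2) (ZMod r), orderOf s = 2 * r := by
  have h1 : orderOf (upz r 1) = r := by
    apply orderOf_eq_prime
    · rw [upz_pow, ZMod.natCast_self, upz_zero]
    · intro h
      have := congrArg (fun M : Matrix.SpecialLinearGroup (Fin 2) (ZMod r) => M.1 0 1) h
      simp [upz] at this
  have hne : (-1 : Matrix.SpecialLinearGroup (Fin 2) (ZMod r)) ≠ 1 := by
    intro h
    have h3 := congrArg (fun M : Matrix.SpecialLinearGroup (Fin 2) (ZMod r) => M.1 0 0) h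
    have h4 : (-1 : ZMod r) = 1 := by simpa using h3
    have h5 : ((2 : ℕ) : ZMod r) = 0 := by
      have : (2 : ZMod r) = 1 - (-1) := by ring
      rw [Nat.cast_ofNat, this, h4, sub_self]
    rw [ZMod.natCast_eq_zero_iff] at h5
    exact hr2 ((Nat.prime_dvd_prime_iff_eq hr.out Nat.prime_two).1 h5)
  have h2 : orderOf (-1 : Matrix.SpecialLinearGroup (Fin 2) (ZMod r)) = 2 := by
    apply orderOf_eq_prime _ hne
    simp
  refine ⟨-1 * upz r 1, ?_⟩
  have hc : Commute (-1 : Matrix.SpecialLinearGroup (Fin 2) (ZMod r)) (upz r 1) := by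
    show -1 * upz r 1 = upz r 1 * -1
    simp
  rw [hc.orderOf_mul_eq_mul_orderOf_of_coprime, h1, h2]
  rw [h1, h2]
  exact (Nat.coprime_primes Nat.prime_two hr.out).2 hr2.symm

section abs

variable {Q : Type*} [Group Q] [Finite Q] {r : ℕ} [hr : Fact r.Prime] {q : ℕ}

theorem no_sl_two (hr2 : r ≠ 2) (hq : ∃ f, q = r ^ f)
    (hcardC : ∀ x : Q, x ≠ 1 → (∃ k, orderOf x = r ^ k) →
      Nat.card (Subgroup.centralizer ({x} : Set Q)) = q) :
    ¬ ∃ (H K : Subgroup Q) (hK : (K.subgroupOf H).Normal),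
      Nonempty ((H ⧸ K.subgroupOf H) ≃* Matrix.SpecialLinearGroup (Fin 2) (ZMod r)) := by
  rintro ⟨H, K, hK, ⟨e⟩⟩
  obtain ⟨s, hs⟩ := exists_order_two_mul r hr2
  obtain ⟨x, hx⟩ := QuotientGroup.mk_surjective (e.symm s)
  have h1 : orderOf (QuotientGroup.mk x : H ⧸ K.subgroupOf H) = 2 * r := by
    rw [hx, ← hs]
    exact orderOf_injective e.symm.toMonoidHom e.symm.injective s
  have h2 : 2 * r ∣ orderOf x := by
    rw [← h1]
    exact orderOf_map_dvd (QuotientGroup.mk' (K.subgroupOf H)) x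
  have h3 : 2 * r ∣ orderOf (x : Q) := by rwa [Subgroup.orderOf_coe]
  obtain ⟨m, hm⟩ := h3
  have hpos : 0 < orderOf (x : Q) := orderOf_pos _
  have hm0 : m ≠ 0 := by
    rintro rfl
    rw [mul_zero] at hm
    omega
  have hr0 : 0 < r := hr.out.pos
  set y := (x : Q) ^ (2 * m) with hy
  set t := (x : Q) ^ (r * m) with ht
  have hyo : orderOf y = r := by
    rw [hy, orderOf_pow' _ (by omega), hm]
    have : Nat.gcd (2 * r * m) (2 * m) = 2 * m := by
      rw [Nat.gcd_eq_right]
      exact ⟨r, by ring⟩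
    rw [this]
    have e1 : 2 * r * m = r * (2 * m) := by ring
    rw [e1, Nat.mul_div_cancel _ (by omega)]
  have hto : orderOf t = 2 := by
    rw [ht, orderOf_pow' _ (by positivity), hm]
    have : Nat.gcd (2 * r * m) (r * m) = r * m := by
      rw [Nat.gcd_eq_right]
      exact ⟨2, by ring⟩
    rw [this]
    have e1 : 2 * r * m = 2 * (r * m) := by ring
    rw [e1, Nat.mul_div_cancel _ (by positivity)]
  have hy1 : y ≠ 1 := by
    rw [Ne, ← orderOf_eq_one_iff, hyo]
    exact hr.out.one_lt.ne'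
  have hc := hcardC y hy1 ⟨1, by rw [hyo, pow_one]⟩
  have htC : t ∈ Subgroup.centralizer ({y} : Set Q) := by
    rw [mem_C, ht, hy]
    exact ((Commute.refl (x : Q)).pow_pow _ _).eq
  have h4 : orderOf (⟨t, htC⟩ : Subgroup.centralizer ({y} : Set Q)) ∣ q := by
    rw [← hc]
    exact _root_.orderOf_dvd_natCard _
  rw [Subgroup.orderOf_mk, hto] at h4
  obtain ⟨f, rfl⟩ := hq
  have := Nat.prime_two.dvd_of_dvd_pow h4
  exact hr2 ((Nat.prime_dvd_prime_iff_eq Nat.prime_two hr.out).1 this).symm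

theorem orderOf_of_mem_sylow (P : Sylow r Q) {x : Q} (hx : x ∈ (P : Subgroup Q)) :
    ∃ k, orderOf x = r ^ k := by
  obtain ⟨k, hk⟩ := (IsPGroup.iff_orderOf.1 P.2) ⟨x, hx⟩
  exact ⟨k, by rw [← hk, Subgroup.orderOf_mk]⟩

/-- The Sylow `r`-subgroups are abelian. -/
theorem sylow_comm (hr2 : r ≠ 2) (hq : ∃ f, q = r ^ f) (hq1 : 1 < q)
    (hqfac : r ^ (Nat.card Q).factorization r = q)
    (hcardC : ∀ x : Q, x ≠ 1 → (∃ k, orderOf x = r ^ k) →
      Nat.card (Subgroup.centralizer ({x} : Set Q)) = q) (P : Sylow r Q) :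
    ∀ x ∈ (P : Subgroup Q), ∀ y ∈ (P : Subgroup Q), x * y = y * x := by
  have hPcard : Nat.card (P : Subgroup Q) = q := by
    have := P.card_eq_multiplicity
    rw [hqfac] at this
    exact this
  have hfree := no_sl_two hr2 hq hcardC
  -- the centraliser of a nontrivial r-element is a Sylow subgroup
  have hCeq : ∀ (R : Sylow r Q) (x : Q), x ≠ 1 → (∃ k, orderOf x = r ^ k) →
      (R : Subgroup Q) ≤ Subgroup.centralizer ({x} : Set Q) →
      Subgroup.centralizer ({x} : Set Q) = R := by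
    intro R x hx hk hle
    symm
    apply Subgroup.eq_of_le_of_card_ge hle
    rw [hcardC x hx hk]
    have := R.card_eq_multiplicity
    rw [hqfac] at this
    exact this.ge
  have hCsyl : ∀ x : Q, x ≠ 1 → (∃ k, orderOf x = r ^ k) →
      ∃ g : Q, Subgroup.centralizer ({x} : Set Q) = ((g • P : Sylow r Q) : Subgroup Q) := by
    intro x hx hk
    have h1 : IsPGroup r (Subgroup.centralizer ({x} : Set Q)) := by
      obtain ⟨f, hf⟩ := hq
      exact IsPGroup.of_card (n := f) (by rw [hcardC x hx hk, hf])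
    obtain ⟨R, hR⟩ := h1.exists_le_sylow
    obtain ⟨g, hg⟩ := MulAction.exists_smul_eq Q P R
    refine ⟨g, ?_⟩
    rw [hg]
    apply Subgroup.eq_of_le_of_card_ge hR
    rw [hcardC x hx hk]
    have := R.card_eq_multiplicity
    rw [hqfac] at this
    exact this.le
  set Z := Cfsg.centerThompsonOf r (P : Subgroup Q) with hZ
  have hPbot : (P : Subgroup Q) ≠ ⊥ := by
    intro h0
    rw [h0, Subgroup.card_bot] at hPcard
    omega
  have hZbot : Z ≠ ⊥ := Cfsg.Agent.S0118.centerThompsonOf_ne_bot P.2 hPbot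
  have hZP : Z ≤ P := Cfsg.Agent.PLocal.ZJElem.centerThompsonOf_le r _
  -- every element of P is centralised by Z
  have key : ∀ v ∈ (P : Subgroup Q), v ≠ 1 → ∃ n ∈ Subgroup.normalizer (Z : Set Q),
      Subgroup.centralizer ({n⁻¹ * v * n} : Set Q) = P := by
    intro v hv hv1
    obtain ⟨g, hg⟩ := hCsyl v hv1 (orderOf_of_mem_sylow P hv)
    have hmem : g⁻¹ * v * g ∈ (P : Subgroup Q) := by
      have h1 : v ∈ ((g • P : Sylow r Q) : Subgroup Q) := by
        rw [← hg, mem_C]
      rw [Sylow.coe_subgroup_smul, Subgroup.mem_pointwise_smul_iff_inv_smul_mem] at h1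
      simpa [MulAut.smul_def, mul_assoc] using h1
    have hCg : Subgroup.centralizer ({g⁻¹ * v * g} : Set Q) = P := by
      apply hCeq P
      · intro h0
        apply hv1
        have : v = g * (g⁻¹ * v * g) * g⁻¹ := by group
        rw [this, h0]; group
      · exact orderOf_of_mem_sylow P hmem
      · intro y hy
        have h1 : g * y * g⁻¹ ∈ ((g • P : Sylow r Q) : Subgroup Q) := by
          rw [Sylow.coe_subgroup_smul, Subgroup.mem_pointwise_smul_iff_inv_smul_mem]
          simpa [MulAut.smul_def, mul_assoc] using hy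
        rw [← hg, mem_C] at h1
        rw [mem_C]
        calc y * (g⁻¹ * v * g) = g⁻¹ * ((g * y * g⁻¹) * v) * g := by group
          _ = g⁻¹ * (v * (g * y * g⁻¹)) * g := by rw [h1]
          _ = _ := by group
    obtain ⟨n, hn, hnv⟩ := Cfsg.Agent.S0118.result hr2 hfree P {v}
      (Set.singleton_subset_iff.2 hv) g (by
        rintro _ ⟨a, ha, rfl⟩
        rw [Set.mem_singleton_iff.1 ha]
        exact hmem)
    refine ⟨n, hn, ?_⟩
    rw [hnv v rfl, hCg]
  have hZcent : ∀ v ∈ (P : Subgroup Q), ∀ w ∈ Z, v * w = w * v := by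
    intro v hv w hw
    by_cases hv1 : v = 1
    · rw [hv1, one_mul, mul_one]
    obtain ⟨n, hn, hC⟩ := key v hv hv1
    have hnw : n⁻¹ * w * n ∈ Z := by
      have := (Subgroup.mem_normalizer_iff.1 (inv_mem hn) w).1 hw
      simpa using this
    have h1 : n⁻¹ * w * n ∈ Subgroup.centralizer ({n⁻¹ * v * n} : Set Q) := by
      rw [hC]
      exact hZP hnw
    rw [mem_C] at h1
    calc v * w = n * ((n⁻¹ * v * n) * (n⁻¹ * w * n)) * n⁻¹ := by group
      _ = n * ((n⁻¹ * w * n) * (n⁻¹ * v * n)) * n⁻¹ := by rw [h1]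
      _ = w * v := by group
  -- a nontrivial element of Z
  obtain ⟨⟨w, hw⟩, hw1⟩ := Subgroup.ne_bot_iff_exists_ne_one.1 hZbot
  have hw1' : w ≠ 1 := fun h0 => hw1 (Subtype.ext h0)
  have hCZ : ∀ z ∈ Z, z ≠ 1 → Subgroup.centralizer ({z} : Set Q) = P := by
    intro z hz hz1
    apply hCeq P z hz1 (orderOf_of_mem_sylow P (hZP hz))
    intro y hy
    rw [mem_C]
    exact hZcent y hy z hz
  -- N(Z) normalises P
  have hnP : ∀ n ∈ Subgroup.normalizer (Z : Set Q), ∀ y, y ∈ (P : Subgroup Q) ↔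
      n⁻¹ * y * n ∈ (P : Subgroup Q) := by
    intro n hn y
    have hnw : n * w * n⁻¹ ∈ Z := (Subgroup.mem_normalizer_iff.1 hn w).1 hw
    have hnw1 : n * w * n⁻¹ ≠ 1 := fun h0 => hw1' (conj_eq_one_iff.1 h0)
    rw [← hCZ _ hnw hnw1]
    conv_rhs => rw [hCZ _ hnw hnw1, ← hCZ w hw hw1']
    rw [mem_C, mem_C]
    constructor
    · intro h1
      calc n⁻¹ * y * n * w = n⁻¹ * (y * (n * w * n⁻¹)) * n := by group
        _ = n⁻¹ * ((n * w * n⁻¹) * y) * n := by rw [h1]
        _ = _ := by group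
    · intro h1
      calc y * (n * w * n⁻¹) = n * ((n⁻¹ * y * n) * w) * n⁻¹ := by group
        _ = n * (w * (n⁻¹ * y * n)) * n⁻¹ := by rw [h1]
        _ = _ := by group
  intro x hx y hy
  by_cases hx1 : x = 1
  · rw [hx1, one_mul, mul_one]
  obtain ⟨n, hn, hC⟩ := key x hx hx1
  have h1 : n⁻¹ * y * n ∈ Subgroup.centralizer ({n⁻¹ * x * n} : Set Q) := by
    rw [hC]
    exact (hnP n hn y).1 hy
  rw [mem_C] at h1
  calc x * y = n * ((n⁻¹ * x * n) * (n⁻¹ * y * n)) * n⁻¹ := by group
    _ = n * ((n⁻¹ * y * n) * (n⁻¹ * x * n)) * n⁻¹ := by rw [h1]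
    _ = y * x := by group

end abs

end Cfsg.Agent.H402
end

-- part: H402/CsZass
section
/-!
# Groups with the class sizes of `PSL(2, q)`, `q` odd: the action on the Sylow `r`-subgroups
-/

set_option autoImplicit false
set_option linter.unusedSectionVars false

namespace Cfsg.Agent.H402

open Subgroup

/-- The abstract situation: abelian Sylow `r`-subgroups of order `q` containing the centralisers of
their nontrivial elements, `|Q| = q (q ^ 2 - 1) / 2` and large classes. -/
structure ZHyp (Q : Type*) [Group Q] (q r : ℕ) : Prop where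
  prime : r.Prime
  odd : Odd q
  seven : 7 ≤ q
  card : 2 * Nat.card Q = q * (q ^ 2 - 1)
  big : ∀ x : Q, x ≠ 1 → q < ix x
  sylcard : ∀ P : Sylow r Q, Nat.card (P : Subgroup Q) = q
  cent : ∀ (P : Sylow r Q) (x : Q), x ≠ 1 → x ∈ (P : Subgroup Q) →
    Subgroup.centralizer ({x} : Set Q) = P

namespace ZHyp

variable {Q : Type*} [Group Q] [Finite Q] {q r : ℕ} (h : ZHyp Q q r)

include h

theorem eq_of_mem {P R : Sylow r Q} {x : Q} (hx : x ≠ 1) (hP : x ∈ (P : Subgroup Q))
    (hR : x ∈ (R : Subgroup Q)) : P = R := by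
  apply Sylow.ext
  rw [← h.cent P x hx hP, ← h.cent R x hx hR]

theorem mem_of_smul_eq {P R : Sylow r Q} {x : Q} (hP : x ∈ (P : Subgroup Q)) (hR : x • R = R) :
    x ∈ (R : Subgroup Q) := by
  have : Fact r.Prime := ⟨h.prime⟩
  have h1 : x ∈ Subgroup.normalizer ((R : Subgroup Q) : Set Q) := Sylow.smul_eq_iff_mem_normalizer.1 hR
  have h2 : IsPGroup r (zpowers x) := by
    obtain ⟨k, hk⟩ := orderOf_of_mem_sylow P hP
    exact IsPGroup.of_card (n := k) (by rw [Nat.card_zpowers, hk])
  have h3 := h2.inf_normalizer_sylow R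
  have h4 : x ∈ zpowers x ⊓ (R : Subgroup Q) := h3 ▸ (⟨mem_zpowers x, h1⟩ :
    x ∈ zpowers x ⊓ Subgroup.normalizer ((R : Subgroup Q) : Set Q))
  exact h4.2

/-- Nontrivial elements of a Sylow subgroup fix no other point. -/
theorem eq_of_smul_eq {P R : Sylow r Q} {x : Q} (hx : x ≠ 1) (hP : x ∈ (P : Subgroup Q))
    (hR : x • R = R) : R = P :=
  (h.eq_of_mem hx hP (h.mem_of_smul_eq hP hR)).symm

theorem smul_self {P : Sylow r Q} {x : Q} (hP : x ∈ (P : Subgroup Q)) : x • P = P :=
  Sylow.smul_eq_iff_mem_normalizer.2 (Subgroup.le_normalizer hP)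

theorem comm (P : Sylow r Q) : ∀ x ∈ (P : Subgroup Q), ∀ y ∈ (P : Subgroup Q), x * y = y * x := by
  intro x hx y hy
  by_cases hy1 : y = 1
  · rw [hy1, one_mul, mul_one]
  · rw [← h.cent P y hy1 hy] at hx
    exact mem_C.1 hx

/-- The action of `P` on the other Sylow subgroups. -/
theorem dvd_sub_one (P : Sylow r Q) : q ∣ Nat.card {R : Sylow r Q // R ≠ P} := by
  classical
  let _ : MulAction (P : Subgroup Q) {R : Sylow r Q // R ≠ P} :=
    { smul := fun x R => ⟨(x : Q) • R.1, fun h0 => R.2 (by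
        have h1 : (x : Q) • R.1 = (x : Q) • P := by rw [h0, h.smul_self x.2]
        exact smul_left_cancel (x : Q) h1)⟩
      one_smul := fun R => Subtype.ext (one_smul Q R.1)
      mul_smul := fun x y R => Subtype.ext (mul_smul (x : Q) (y : Q) R.1) }
  have hfree : ∀ R : {R : Sylow r Q // R ≠ P}, MulAction.stabilizer (P : Subgroup Q) R = ⊥ := by
    intro R
    rw [eq_bot_iff]
    intro x hx
    rw [Subgroup.mem_bot]
    by_contra hx1
    have h1 : (x : Q) • R.1 = R.1 := congrArg Subtype.val (MulAction.mem_stabilizer_iff.1 hx)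
    exact R.2 (h.eq_of_smul_eq (fun h0 => hx1 (Subtype.ext h0)) x.2 h1)
  have e := MulAction.selfEquivOrbitsQuotientProd hfree
  rw [Nat.card_congr e, Nat.card_prod, h.sylcard P]
  exact dvd_mul_left _ _

theorem card_sylow_eq (P : Sylow r Q) :
    Nat.card (Sylow r Q) = Nat.card {R : Sylow r Q // R ≠ P} + 1 := by
  classical
  have h1 : Nat.card {R : Sylow r Q // R ≠ P} = Set.ncard {R : Sylow r Q | R ≠ P} := rfl
  have h2 : Nat.card (Sylow r Q) = Set.ncard (Set.univ : Set (Sylow r Q)) :=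
    (Set.ncard_univ _).symm
  rw [h1, h2]
  have h3 : (Set.univ : Set (Sylow r Q)) = insert P {R : Sylow r Q | R ≠ P} := by
    ext R
    simp only [Set.mem_univ, Set.mem_insert_iff, true_iff]
    by_cases hR : R = P
    · exact Or.inl hR
    · exact Or.inr hR
  have h4 : P ∉ {R : Sylow r Q | R ≠ P} := fun h0 => (show P ≠ P from h0) rfl
  rw [h3, Set.ncard_insert_of_notMem h4 (Set.toFinite _)]

/-- The normaliser of `P` acts semiregularly on the nontrivial elements of `P`. -/
theorem dvd_q_sub_one (P : Sylow r Q) :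
    (P : Subgroup Q).relIndex (Subgroup.normalizer ((P : Subgroup Q) : Set Q)) ∣ q - 1 := by
  classical
  set N := Subgroup.normalizer ((P : Subgroup Q) : Set Q) with hN
  have hPN : (P : Subgroup Q) ≤ N := Subgroup.le_normalizer
  have h1 := dvd_card_of_classes (G := N) (fun x => x ≠ 1 ∧ (x : Q) ∈ (P : Subgroup Q))
    ((P : Subgroup Q).relIndex N) (by
      rintro x g ⟨hx1, hx⟩
      refine ⟨fun h0 => hx1 (conj_eq_one_iff.1 h0), ?_⟩
      exact (Subgroup.mem_normalizer_iff.1 g.2 (x : Q)).1 hx) (by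
      rintro x ⟨hx1, hx⟩
      rw [ix, Subgroup.relIndex]
      congr 1
      ext y
      rw [mem_C, mem_subgroupOf, ← h.cent P (x : Q) (fun h0 => hx1 (Subtype.ext h0)) hx, mem_C]
      constructor
      · intro h2
        exact congrArg Subtype.val h2
      · intro h2
        exact Subtype.ext h2)
  have h2 : Nat.card {x : N // x ≠ 1 ∧ (x : Q) ∈ (P : Subgroup Q)} + 1 = q := by
    rw [← h.sylcard P]
    have h3 : Nat.card {x : N // x ≠ 1 ∧ (x : Q) ∈ (P : Subgroup Q)} =
        Nat.card {x : (P : Subgroup Q) // x ≠ 1} := by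
      apply Nat.card_congr
      refine ⟨fun x => ⟨⟨x.1.1, x.2.2⟩, fun h0 => x.2.1 (Subtype.ext
          (show ((x.1 : N) : Q) = 1 from congrArg Subtype.val h0))⟩,
        fun x => ⟨⟨x.1.1, hPN x.1.2⟩, fun h0 => x.2 (Subtype.ext
          (show ((x.1 : (P : Subgroup Q)) : Q) = 1 from congrArg Subtype.val h0)), x.1.2⟩,
        fun x => rfl, fun x => rfl⟩
    rw [h3]
    have h4 : Nat.card {x : (P : Subgroup Q) // x ≠ 1} =
      Set.ncard {x : (P : Subgroup Q) | x ≠ 1} := rfl
    have h5 : Nat.card (P : Subgroup Q) = Set.ncard (Set.univ : Set (P : Subgroup Q)) :=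
      (Set.ncard_univ _).symm
    rw [h4, h5]
    have h6 : (Set.univ : Set (P : Subgroup Q)) = insert 1 {x : (P : Subgroup Q) | x ≠ 1} := by
      ext R
      simp only [Set.mem_univ, Set.mem_insert_iff, true_iff]
      by_cases hR : R = 1
      · exact Or.inl hR
      · exact Or.inr hR
    have h7 : (1 : (P : Subgroup Q)) ∉ {x : (P : Subgroup Q) | x ≠ 1} :=
      fun h0 => (show (1 : (P : Subgroup Q)) ≠ 1 from h0) rfl
    rw [h6, Set.ncard_insert_of_notMem h7 (Set.toFinite _)]
  have h3 : Nat.card {x : N // x ≠ 1 ∧ (x : Q) ∈ (P : Subgroup Q)} = q - 1 := by omega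
  rw [h3] at h1
  exact h1

/-- The numbers: `|N(P) : P| = (q - 1) / 2` and `q + 1` Sylow subgroups. -/
theorem numbers (P : Sylow r Q) :
    2 * (P : Subgroup Q).relIndex (Subgroup.normalizer ((P : Subgroup Q) : Set Q)) + 1 = q ∧
      Nat.card (Sylow r Q) = q + 1 := by
  have : Fact r.Prime := ⟨h.prime⟩
  set m := (P : Subgroup Q).relIndex (Subgroup.normalizer ((P : Subgroup Q) : Set Q)) with hm
  set n := Nat.card (Sylow r Q) with hn
  have hq7 := h.seven
  have hmd := h.dvd_q_sub_one P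
  rw [← hm] at hmd
  have hmle : m ≤ q - 1 := Nat.le_of_dvd (by omega) hmd
  obtain ⟨k, hk⟩ := h.dvd_sub_one P
  have hnk : n = q * k + 1 := by rw [hn, h.card_sylow_eq P, hk]
  have hnm : n * m * q = Nat.card Q := by
    have h1 : n = (Subgroup.normalizer ((P : Subgroup Q) : Set Q)).index := Sylow.card_eq_index_normalizer P
    have h2 := Subgroup.relIndex_mul_index (Subgroup.le_normalizer (H := (P : Subgroup Q)))
    have h3 := (P : Subgroup Q).card_mul_index
    rw [h.sylcard P, ← h2, ← hm, ← h1] at h3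
    rw [← h3]; ring
  have hq2 : 1 ≤ q ^ 2 := Nat.one_le_pow _ _ (by omega)
  have h4 : 2 * (n * m) = q ^ 2 - 1 := by
    have h5 : q * (2 * (n * m)) = q * (q ^ 2 - 1) := by
      rw [← h.card, ← hnm]; ring
    exact Nat.eq_of_mul_eq_mul_left (by omega) h5
  have h5 : 2 * (n * m) + 1 = q ^ 2 := by omega
  -- q ∣ 2 m + 1
  have h6 : q ∣ 2 * m + 1 := by
    have h7 : 2 * (n * m) + 1 = q * (2 * k * m) + (2 * m + 1) := by rw [hnk]; ring
    have h8 : q ∣ q * (2 * k * m) + (2 * m + 1) := by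
      rw [← h7, h5, pow_two]
      exact dvd_mul_right q q
    exact (Nat.dvd_add_right (dvd_mul_right q _)).1 h8
  obtain ⟨c, hc⟩ := h6
  have hc1 : c = 1 := by
    have h9 : c < 2 := by
      by_contra h10
      have : q * 2 ≤ q * c := Nat.mul_le_mul_left q (by omega)
      omega
    have h10 : c ≠ 0 := by
      rintro rfl
      rw [mul_zero] at hc
      omega
    omega
  rw [hc1, mul_one] at hc
  refine ⟨hc, ?_⟩
  have h11 : (n : ℤ) * (2 * m) = (q + 1) * (2 * m) := by
    have h12 : (2 : ℤ) * (n * m) + 1 = q ^ 2 := by exact_mod_cast h5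
    have h13 : (2 : ℤ) * m + 1 = q := by exact_mod_cast hc
    have h14 : (2 : ℤ) * m = q - 1 := by linarith
    rw [h14]
    have h15 : (n : ℤ) * (2 * m) + 1 = q ^ 2 := by linarith
    rw [h14] at h15
    nlinarith
  have h12 : n * (2 * m) = (q + 1) * (2 * m) := by exact_mod_cast h11
  exact Nat.eq_of_mul_eq_mul_right (by omega) h12

/-- `P` is transitive on the other Sylow subgroups. -/
theorem exists_unique (P : Sylow r Q) {R S : Sylow r Q} (hR : R ≠ P) (hS : S ≠ P) :
    ∃ x ∈ (P : Subgroup Q), x • R = S ∧ ∀ y ∈ (P : Subgroup Q), y • R = S → y = x := by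
  classical
  have huniq : ∀ x ∈ (P : Subgroup Q), ∀ y ∈ (P : Subgroup Q), x • R = y • R → x = y := by
    intro x hx y hy hxy
    by_contra hne
    apply hR
    apply h.eq_of_smul_eq (P := P) (x := y⁻¹ * x) _ (mul_mem (inv_mem hy) hx)
    · rw [mul_smul, hxy, inv_smul_smul]
    · intro h0
      exact hne (inv_mul_eq_one.1 h0).symm
  have hne : ∀ x : (P : Subgroup Q), (x : Q) • R ≠ P := by
    intro x h0
    apply hR
    have h1 : (x : Q) • R = (x : Q) • P := by rw [h0, h.smul_self x.2]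
    exact smul_left_cancel (x : Q) h1
  let f : ↥(P : Subgroup Q) → {R : Sylow r Q // R ≠ P} := fun x => ⟨(x : Q) • R, hne x⟩
  have hinj : Function.Injective f := by
    intro x y hxy
    exact Subtype.ext (huniq x x.2 y y.2 (congrArg Subtype.val hxy))
  have hcard : Nat.card (P : Subgroup Q) = Nat.card {R : Sylow r Q // R ≠ P} := by
    have h1 := h.card_sylow_eq P
    rw [(h.numbers P).2] at h1
    rw [h.sylcard P]
    omega
  have hsurj := ((Nat.bijective_iff_injective_and_card f).2 ⟨hinj, hcard⟩).2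
  obtain ⟨x, hx⟩ := hsurj ⟨S, hS⟩
  have hx' : (x : Q) • R = S := congrArg Subtype.val hx
  refine ⟨x, x.2, hx', fun y hy hyS => huniq y hy x x.2 (hyS.trans hx'.symm)⟩

theorem two_trans {P₁ P₂ R₁ R₂ : Sylow r Q} (hP : P₁ ≠ P₂) (hR : R₁ ≠ R₂) :
    ∃ g : Q, g • P₁ = R₁ ∧ g • P₂ = R₂ := by
  have : Fact r.Prime := ⟨h.prime⟩
  obtain ⟨g, hg⟩ := MulAction.exists_smul_eq Q P₁ R₁
  have h1 : g • P₂ ≠ R₁ := by
    intro h0
    rw [← hg] at h0
    exact hP (smul_left_cancel g h0).symm
  obtain ⟨x, hx, hx2, -⟩ := h.exists_unique R₁ h1 hR.symm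
  refine ⟨x * g, ?_, ?_⟩
  · rw [mul_smul, hg, h.smul_self hx]
  · rw [mul_smul, hx2]

theorem three_point {g : Q} {A B C : Sylow r Q} (hAB : A ≠ B) (hBC : B ≠ C) (hAC : A ≠ C)
    (hA : g • A = A) (hB : g • B = B) (hC : g • C = C) : g = 1 := by
  by_contra hg
  -- x ∈ A with x • B = C
  obtain ⟨x, hx, hx2, hxu⟩ := h.exists_unique A hAB.symm hAC.symm
  have hgN : g ∈ Subgroup.normalizer ((A : Subgroup Q) : Set Q) :=
    Sylow.smul_eq_iff_mem_normalizer.1 hA
  have h1 : g * x * g⁻¹ ∈ (A : Subgroup Q) := (Subgroup.mem_normalizer_iff.1 hgN x).1 hx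
  have h2 : (g * x * g⁻¹) • B = C := by
    have hB' : g⁻¹ • B = B := by rw [inv_smul_eq_iff, hB]
    rw [mul_smul, mul_smul, hB', hx2, hC]
  have h3 := hxu _ h1 h2
  have hx1 : x ≠ 1 := by
    rintro rfl
    rw [one_smul] at hx2
    exact hBC hx2
  have h4 : g ∈ Subgroup.centralizer ({x} : Set Q) := by
    rw [mem_C]
    exact mul_inv_eq_iff_eq_mul.1 h3
  rw [h.cent A x hx1 hx] at h4
  exact hAB.symm (h.eq_of_smul_eq hg h4 hB)

theorem isZassenhaus : Cfsg.IsZassenhausGroup Q (Sylow r Q) := by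
  classical
  have : Fact r.Prime := ⟨h.prime⟩
  have hq7 := h.seven
  obtain ⟨P⟩ : Nonempty (Sylow r Q) := inferInstance
  have hn := (h.numbers P).2
  have hfin : Finite (Sylow r Q) := inferInstance
  have hthree : ∃ A B C : Sylow r Q, A ≠ B ∧ A ≠ C ∧ B ≠ C := by
    have h1 : 2 < Nat.card (Sylow r Q) := by omega
    have := Fintype.ofFinite (Sylow r Q)
    rw [Nat.card_eq_fintype_card] at h1
    exact Fintype.two_lt_card_iff.1 h1
  obtain ⟨A, B, C, hAB, hAC, hBC⟩ := hthree
  refine ⟨⟨?_⟩, ?_, ?_, ?_, ?_⟩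
  · intro g g' hgg
    have h1 : g'⁻¹ * g = 1 := by
      apply h.three_point hAB hBC hAC <;> rw [mul_smul, hgg, inv_smul_smul]
    exact (inv_mul_eq_one.1 h1).symm
  · rw [MulAction.is_two_pretransitive_iff]
    intro a b c d hab hcd
    exact h.two_trans hab hcd
  · intro g a b c hab hbc hac ha hb hc
    exact h.three_point hab hbc hac ha hb hc
  · -- a nontrivial element fixing two points
    by_contra hcon
    push Not at hcon
    -- N(A) acts freely on the others
    have h1 : Nat.card (Subgroup.normalizer ((A : Subgroup Q) : Set Q)) ≤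
        Nat.card {R : Sylow r Q // R ≠ A} := by
      let f : Subgroup.normalizer ((A : Subgroup Q) : Set Q) → {R : Sylow r Q // R ≠ A} :=
        fun x => ⟨(x : Q) • B, fun h0 => hAB (by
          have h1 : (x : Q) • A = A := Sylow.smul_eq_iff_mem_normalizer.2 x.2
          exact smul_left_cancel (x : Q) (h1.trans h0.symm))⟩
      apply Nat.card_le_card_of_injective f
      intro x y hxy
      have h2 : (x : Q) • B = (y : Q) • B := congrArg Subtype.val hxy
      by_contra hne
      have h3 : ((y : Q)⁻¹ * x) ≠ 1 := by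
        intro h0
        exact hne (Subtype.ext (inv_mul_eq_one.1 h0).symm)
      apply hcon _ h3 A B hAB
      · have h4 : (x : Q) • A = A := Sylow.smul_eq_iff_mem_normalizer.2 x.2
        have h5 : (y : Q) • A = A := Sylow.smul_eq_iff_mem_normalizer.2 y.2
        rw [mul_smul, h4, inv_smul_eq_iff, h5]
      · rw [mul_smul, h2, inv_smul_smul]
    have h2 := h.card_sylow_eq A
    rw [hn] at h2
    have h3 := (h.numbers A).1
    have h4 : Nat.card (Subgroup.normalizer ((A : Subgroup Q) : Set Q)) =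
        q * (A : Subgroup Q).relIndex (Subgroup.normalizer ((A : Subgroup Q) : Set Q)) := by
      have h5 := Subgroup.relIndex_mul_index (bot_le (a := (A : Subgroup Q)))
      have h6 := ((A : Subgroup Q).subgroupOf
        (Subgroup.normalizer ((A : Subgroup Q) : Set Q))).card_mul_index
      have h7 : Nat.card ((A : Subgroup Q).subgroupOf
        (Subgroup.normalizer ((A : Subgroup Q) : Set Q))) = q := by
        rw [← h.sylcard A]
        exact Nat.card_congr (Subgroup.subgroupOfEquivOfLe Subgroup.le_normalizer).toEquiv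
      rw [h7] at h6
      exact h6.symm
    rw [h4] at h1
    have h5 : (A : Subgroup Q).relIndex (Subgroup.normalizer ((A : Subgroup Q) : Set Q)) ≥ 3 := by
      omega
    have h6 : Nat.card {R : Sylow r Q // R ≠ A} = q := by omega
    rw [h6] at h1
    nlinarith
  · -- no regular normal subgroup
    intro N hNn hNt
    by_contra hcon
    push Not at hcon
    have h1 : Nat.card N = q + 1 := by
      have h2 := MulAction.index_stabilizer_of_transitive N A
      have h3 := (MulAction.stabilizer N A).card_mul_index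
      rw [hcon A, Subgroup.card_bot, one_mul] at h3
      rw [hcon A] at h2
      rw [← h3, h2, hn]
    have hNbot : N ≠ ⊥ := by
      intro h0
      rw [h0, Subgroup.card_bot] at h1
      omega
    obtain ⟨⟨x, hxN⟩, hx⟩ := Subgroup.ne_bot_iff_exists_ne_one.1 hNbot
    have hx1 : x ≠ 1 := fun h0 => hx (Subtype.ext h0)
    have h2 := h.big x hx1
    have h3 : Nat.card {y : Q | IsConj x y} = ix x := Cfsg.Agent.Blocks.Central.card_isConj x
    have h4 : Nat.card {y : Q | IsConj x y} + 1 ≤ Nat.card N := by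
      have h5 : Nat.card {y : Q | IsConj x y} = Set.ncard {y : Q | IsConj x y} := rfl
      have h6 : Nat.card N = Set.ncard (N : Set Q) := rfl
      rw [h5, h6]
      have h7 : insert 1 {y : Q | IsConj x y} ⊆ (N : Set Q) := by
        rintro y (rfl | hy)
        · exact one_mem N
        · obtain ⟨g, hg⟩ := isConj_iff.1 (show IsConj x y from hy)
          rw [← hg]
          exact hNn.conj_mem x hxN g
      have h8 : (1 : Q) ∉ {y : Q | IsConj x y} := by
        intro h0
        exact hx1 (isConj_one_right.1 (show IsConj x 1 from h0).symm)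
      rw [← Set.ncard_insert_of_notMem h8 (Set.toFinite _)]
      exact Set.ncard_le_ncard h7 (Set.toFinite _)
    omega

end ZHyp

end Cfsg.Agent.H402
end

-- part: H402/CsQuotIso
section
/-!
# Groups with the class sizes of `PSL(2, q)`: `G / Z(G) ≅ PSL(2, q)`
-/

set_option autoImplicit false
set_option linter.unusedSectionVars false

namespace Cfsg.Agent.H402

open Subgroup

namespace ZHyp

theorem exists_psl {Q : Type*} [Group Q] [Finite Q] {q r : ℕ} (h : ZHyp Q q r) :
    ∃ (K : Type) (_ : Field K) (_ : Fintype K), Fintype.card K = q ∧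
      Nonempty (Q ≃* Matrix.ProjectiveSpecialLinearGroup (Fin 2) K) := by
  classical
  have : Fact r.Prime := ⟨h.prime⟩
  have hq7 := h.seven
  obtain ⟨P⟩ : Nonempty (Sylow r Q) := inferInstance
  have hn := (h.numbers P).2
  have hcardQ := h.card
  have hq2 : q ^ 2 - 1 = (q + 1) * (q - 1) := by
    have := Nat.sq_sub_sq q 1
    rw [one_pow] at this
    exact this
  have hmain := Cfsg.Agent.S0731.result h.isZassenhaus P (P : Subgroup Q) (by
      intro x hx
      exact MulAction.mem_stabilizer_iff.2 (h.smul_self hx)) (by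
      refine ⟨fun x hx g => ?_⟩
      rw [mem_subgroupOf] at hx ⊢
      have h1 : (g : Q) ∈ Subgroup.normalizer ((P : Subgroup Q) : Set Q) :=
        Sylow.smul_eq_iff_mem_normalizer.1 (MulAction.mem_stabilizer_iff.1 g.2)
      exact (Subgroup.mem_normalizer_iff.1 h1 x).1 hx)
    ⟨⟨fun x y => Subtype.ext (h.comm P x x.2 y y.2)⟩⟩ (by
      intro y z hy hz
      obtain ⟨x, hx, hxy, hu⟩ := h.exists_unique P hy hz
      refine ⟨⟨x, hx⟩, hxy, fun w hw => Subtype.ext (hu w w.2 hw)⟩)
  rcases hmain with ⟨h3, hst⟩ | ⟨K, hK1, hK2, hK3, ⟨e⟩⟩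
  · exfalso
    -- sharply 3-transitive: order (q + 1) q (q - 1)
    have h1 : 2 < Nat.card (Sylow r Q) := by omega
    have := Fintype.ofFinite (Sylow r Q)
    have h1' : 3 ≤ Fintype.card (Sylow r Q) := by
      rw [← Nat.card_eq_fintype_card]; omega
    obtain ⟨t⟩ : Nonempty (Fin 3 ↪ Sylow r Q) := by
      apply Function.Embedding.nonempty_of_card_le
      rw [Fintype.card_fin]
      exact h1'
    have : MulAction.IsPretransitive Q (Fin 3 ↪ Sylow r Q) := h3
    have h4 := MulAction.index_stabilizer_of_transitive Q t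
    rw [hst t, Subgroup.index_bot, Nat.card_eq_fintype_card (α := Fin 3 ↪ Sylow r Q),
      Fintype.card_embedding_eq, Fintype.card_fin, ← Nat.card_eq_fintype_card, hn] at h4
    have h5 : (q + 1).descFactorial 3 = (q + 1) * (q * (q - 1)) := by
      simp only [Nat.descFactorial_succ, Nat.descFactorial_zero, mul_one, Nat.sub_zero]
      have : q + 1 - 2 = q - 1 := by omega
      have h6 : q + 1 - 1 = q := by omega
      rw [this, h6]
      ring
    rw [h5] at h4
    rw [h4, hq2] at hcardQ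
    have h7 : 0 < (q + 1) * (q * (q - 1)) :=
      Nat.mul_pos (by omega) (Nat.mul_pos (by omega) (by omega))
    have h8 : q * ((q + 1) * (q - 1)) = (q + 1) * (q * (q - 1)) := by ring
    omega
  · refine ⟨K, hK1, hK2, ?_, ⟨e⟩⟩
    have hKodd : Odd (Fintype.card K) := by
      have h1 : (2 : K) ≠ 0 := Ring.two_ne_zero hK3
      exact (Cfsg.Agent.ClassicalGeometry.PSL2Basic.two_ne_zero_iff_odd K).1 h1
    have h1 := Cfsg.Agent.ClassicalGeometry.PSL2Basic.card_PSL2_odd K hKodd
    rw [← Nat.card_congr e.toEquiv] at h1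
    have h2 : q * (q ^ 2 - 1) = Fintype.card K * (Fintype.card K ^ 2 - 1) := by
      rw [← hcardQ, ← h1]; ring
    have hK1' : 1 ≤ Fintype.card K := Fintype.card_pos
    rcases lt_trichotomy (Fintype.card K) q with h3 | h3 | h3
    · exfalso
      have h4 : Fintype.card K ^ 2 - 1 ≤ q ^ 2 - 1 :=
        Nat.sub_le_sub_right (Nat.pow_le_pow_left h3.le 2) 1
      have h5 : 0 < q ^ 2 - 1 := by
        rw [hq2]; exact Nat.mul_pos (by omega) (by omega)
      have h6 : Fintype.card K * (Fintype.card K ^ 2 - 1) < q * (q ^ 2 - 1) :=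
        Nat.mul_lt_mul_of_lt_of_le h3 h4 h5
      omega
    · exact h3
    · exfalso
      have h4 : q ^ 2 - 1 ≤ Fintype.card K ^ 2 - 1 :=
        Nat.sub_le_sub_right (Nat.pow_le_pow_left h3.le 2) 1
      have h5 : 0 < Fintype.card K ^ 2 - 1 := by
        have : 1 < Fintype.card K ^ 2 := Nat.one_lt_pow (by norm_num) (by omega)
        omega
      have h6 : q * (q ^ 2 - 1) < Fintype.card K * (Fintype.card K ^ 2 - 1) :=
        Nat.mul_lt_mul_of_lt_of_le h3 h4 h5
      omega

end ZHyp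

namespace Hyp

variable {G : Type*} [Group G] [Finite G] {q d a b r : ℕ} (h : Hyp G q d a b r)

include h

/-- All nontrivial classes of `G / Z(G)` have more than `q` elements. -/
theorem lt_ix (hlt : q < d * a * b) {x : G ⧸ center G} (hx : x ≠ 1) : q < ix x := by
  have hq1 := h.q_gt
  obtain ⟨s, t, hs, ht, hst, hcst, hk, htp, hcop⟩ := exists_decomp x h.hr
  by_cases hs1 : s = 1
  · -- t = x is an r'-element
    have htx : t = x := by rw [← hst, hs1, one_mul]
    -- a power of prime order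
    have ho : orderOf x ≠ 1 := fun h0 => hx (orderOf_eq_one_iff.1 h0)
    obtain ⟨p, hp, hpx⟩ := Nat.exists_prime_and_dvd ho
    have hpr : p ≠ r := by
      rintro rfl
      rw [htx] at htp
      have := Nat.Coprime.eq_one_of_dvd htp.symm hpx
      exact hp.one_lt.ne' this
    obtain ⟨s', t', hs', ht', hst', hcst', hk', htp', hcop'⟩ := exists_decomp x hp
    have hs1' : s' ≠ 1 := by
      rintro rfl
      rw [one_mul] at hst'
      rw [hst'] at htp'
      have := Nat.Coprime.eq_one_of_dvd htp'.symm hpx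
      exact hp.one_lt.ne' this
    have h1 := (h.lt_ixQ hp hpr hs1' hk').2
    have h2 : ix s' ∣ ix x := ix_dvd_of_le (C_le_of_mem_zpowers hs')
    have h3 := Nat.le_of_dvd (Nat.pos_of_ne_zero (ix_ne_zero x)) h2
    omega
  · have h1 := h.ixQ_r hs1 hk
    have h2 : ix s ∣ ix x := ix_dvd_of_le (C_le_of_mem_zpowers hs)
    have h3 := Nat.le_of_dvd (Nat.pos_of_ne_zero (ix_ne_zero x)) h2
    omega

theorem zhyp (hq2 : Odd q) (habq : 4 * (a * b) + 1 = q ^ 2) (hq7 : 7 ≤ q) :
    ZHyp (G ⧸ center G) q r := by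
  have hd2 : d = 2 := by
    rcases h.hd with ⟨-, h1, -⟩ | ⟨h1, -⟩
    · exact absurd h1 (Nat.not_even_iff_odd.2 hq2)
    · exact h1
  have hr2 : r ≠ 2 := by
    intro h0
    have h1 := (h.dvd_q_iff h.hr).2 rfl
    rw [h0] at h1
    exact (Nat.not_even_iff_odd.2 hq2) (even_iff_two_dvd.2 h1)
  have : Fact r.Prime := ⟨h.hr⟩
  have hfac := h.factorization_Q (rfl : r = r)
  have hsylcard : ∀ P : Sylow r (G ⧸ center G), Nat.card (P : Subgroup (G ⧸ center G)) = q := by
    intro P
    have := P.card_eq_multiplicity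
    rw [hfac] at this
    exact this
  have hqf : ∃ f, q = r ^ f := by
    obtain ⟨f, hf, hqf⟩ := h.hq
    exact ⟨f, hqf⟩
  have hcomm := fun P : Sylow r (G ⧸ center G) =>
    sylow_comm hr2 hqf h.q_gt hfac (fun x hx hk => h.cardC_r hx hk) P
  refine ⟨h.hr, hq2, hq7, ?_, ?_, hsylcard, ?_⟩
  · rw [h.card_Q, hd2]
    have h1 : q ^ 2 - 1 = 4 * (a * b) := by omega
    rw [h1]; ring
  · intro x hx
    apply h.lt_ix _ hx
    have h1 : 2 * a * b = 2 * (a * b) := by ring
    rw [hd2, h1]
    nlinarith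
  · intro P x hx hxP
    symm
    apply Subgroup.eq_of_le_of_card_ge
    · intro y hy
      rw [mem_C]
      exact hcomm P y hy x hxP
    · rw [h.cardC_r hx (orderOf_of_mem_sylow P hxP), hsylcard P]

/-- **The central quotient.** -/
theorem exists_psl (habq : d ^ 2 * (a * b) + 1 = q ^ 2) (hq : (Even q ∧ 4 ≤ q) ∨ (Odd q ∧ 7 ≤ q)) :
    ∃ (F : Type) (_ : Field F) (_ : Fintype F), Fintype.card F = q ∧
      Nonempty ((G ⧸ center G) ≃* Matrix.ProjectiveSpecialLinearGroup (Fin 2) F) := by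
  rcases hq with ⟨he, h4⟩ | ⟨ho, h7⟩
  · have hd1 := h.d_eq_one_of_even he
    rw [hd1, one_pow, one_mul] at habq
    exact h.even_case he habq h4
  · have hd2 : d = 2 := by
      rcases h.hd with ⟨-, h1, -⟩ | ⟨h1, -⟩
      · exact absurd h1 (Nat.not_even_iff_odd.2 ho)
      · exact h1
    rw [hd2] at habq
    exact (h.zhyp ho habq h7).exists_psl

theorem quot_iso (habq : d ^ 2 * (a * b) + 1 = q ^ 2) (hq : (Even q ∧ 4 ≤ q) ∨ (Odd q ∧ 7 ≤ q))
    {F : Type*} [Field F] [Fintype F] (hF : Fintype.card F = q) :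
    Nonempty ((G ⧸ center G) ≃* Matrix.ProjectiveSpecialLinearGroup (Fin 2) F) := by
  obtain ⟨K, hK1, hK2, hK3, ⟨e⟩⟩ := h.exists_psl habq hq
  have e' : K ≃+* F := FiniteField.ringEquivOfCardEq (hK3.trans hF.symm)
  exact ⟨e.trans (Cfsg.Agent.LieClassical.FieldTransfer.pslCongr e')⟩

end Hyp

end Cfsg.Agent.H402
end

-- part: H402/CsMain
section
/-!
# Groups with the class sizes of `PSL(2, F)`
-/

set_option autoImplicit false
set_option linter.unusedSectionVars false

namespace Cfsg.Agent.H402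

open Subgroup PSL2Cls

variable {F : Type*} [Field F] [Fintype F] {G : Type*} [Group G] [Finite G]

theorem hyp_of_data {d a b r : ℕ} (D : Data F d a b r)
    (h : Set.range (fun g : G => ix g) = Set.range (fun g : PSL F => ix g)) :
    Hyp G (Fintype.card F) d a b r := by
  have hex : ∀ n, (∃ x : PSL F, ix x = n) → ∃ x : G, ix x = n := by
    rintro n ⟨x, hx⟩
    have h1 : n ∈ Set.range (fun g : PSL F => ix g) := ⟨x, hx⟩
    rw [← h] at h1
    exact h1
  refine ⟨D.ar, ?_, hex _ D.exU, hex _ D.exB, hex _ D.exA⟩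
  intro x hx
  have h1 : ix x ∈ Set.range (fun g : G => ix g) := ⟨x, rfl⟩
  rw [h] at h1
  obtain ⟨y, hy⟩ := h1
  have hy' : ix y = ix x := hy
  rw [← hy']
  apply D.sz
  rintro rfl
  rw [ix_eq_one_iff.2 (one_mem _)] at hy'
  exact hx (ix_eq_one_iff.1 hy'.symm)

theorem quot_iso_psl (hq : (2 ∣ Fintype.card F ∧ 2 < Fintype.card F) ∨
    (¬ 2 ∣ Fintype.card F ∧ 7 ≤ Fintype.card F))
    (h : Set.range (fun g : G => ix g) = Set.range (fun g : PSL F => ix g)) :
    Nonempty ((G ⧸ center G) ≃* Matrix.ProjectiveSpecialLinearGroup (Fin 2) F) := by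
  obtain ⟨d, a, b, r, D⟩ := exists_data hq
  have H := hyp_of_data D h
  apply H.quot_iso D.rel _ rfl
  rcases hq with ⟨h1, h2⟩ | ⟨h1, h2⟩
  · left
    exact ⟨even_iff_two_dvd.2 h1, by omega⟩
  · right
    refine ⟨?_, h2⟩
    rw [← Nat.not_even_iff_odd, even_iff_two_dvd]
    exact h1

end Cfsg.Agent.H402
end
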